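import Cfsg.Agent.Chev.CentTorus

/-!
The centraliser of a torus element for an injective torus map: its order, and the conjugacy into
the torus of its elements of a prime order dividing `q - 1`.
-/

set_option autoImplicit false
set_option linter.style.haveILetI false

namespace CfsgLib.E7SixtyFive

open Matrix Cfsg.Lie CfsgLib.Chev CfsgLib.Chev.Tab CfsgLib.Chev.Tab.Good
open scoped MatrixGroups

variable {D : ChevalleyDatum} {T : Tab D} (G : T.Good) {F : Type*} [Field F]
include G

/-- The order of the centraliser of a torus element. -/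
theorem card_cent_inj [Fintype F] (hinj : Function.Injective (T.hT F))
    (c : Fin D.rank → Fˣ) :
    Nat.card ↥(D.group F ⊓ Subgroup.centralizer {T.hT F c}) =
      Fintype.card F ^ Nat.card {s | IsPos D s ∧ T.chi (F := F) s c = 1} *
        (Fintype.card F - 1) ^ D.rank *
        G.full.cpoly (List.range D.rank) c c (Fintype.card F) := by
  classical
  set t := T.hT F c
  have hcz : ∀ {g : GL D.Idx F}, g ∈ Subgroup.centralizer {t} ↔ g * t = t * g := fun {g} => by
    rw [Subgroup.mem_centralizer_iff]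
    exact ⟨fun h => (h t rfl).symm, fun h x hx => by rw [hx, h]⟩
  let W : Finset (Equiv.Perm (Fin D.nroots)) := Finset.univ.filter fun σ =>
    σ ∈ G.full.WJ (List.range D.rank) ∧
      ∀ s : Fin D.nroots, T.chi (F := F) (σ s).val c = T.chi s.val c
  have hword : ∀ σ : W, ∃ L, G.full.pw L = σ.1 := fun σ => by
    obtain ⟨L, -, hL⟩ := G.exists_word_WJ (Finset.mem_filter.mp σ.2).2.1
    exact ⟨L, hL⟩
  choose L hL using hword
  let n : W → GL D.Idx F := fun σ => G.full.nw F (L σ)
  have hn : ∀ σ : W, G.full.RootAct (n σ) σ.1 := fun σ => by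
    have := G.rootAct_nw (F := F) (L σ)
    rwa [hL σ] at this
  -- monomial elements fixing `t`
  have hfix : ∀ (m : GL D.Idx F) (σ : Equiv.Perm (Fin D.nroots)), m ∈ D.monomialSubgroup F →
      G.full.RootAct m σ →
      (m * t = t * m ↔ ∀ s : Fin D.nroots, T.chi (F := F) (σ s).val c = T.chi s.val c) := by
    intro m σ hm hσ
    have hd : m * t * m⁻¹ ∈ D.diagonalSubgroup F :=
      (G.diagonal_normal (F := F)).conj_mem ⟨t, G.hT_mem_monomial c⟩
        (by rw [Subgroup.mem_subgroupOf, G.full.diagonal_eq_range]; exact ⟨c, rfl⟩) ⟨m, hm⟩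
    rw [G.full.diagonal_eq_range] at hd
    obtain ⟨e, he⟩ := hd
    obtain ⟨k, hk⟩ := hσ
    have key : ∀ s : Fin D.nroots, T.chi (F := F) (σ s).val e = T.chi s.val c := by
      intro s
      have h1 : m * (t * G.full.x s.val 1 * t⁻¹) * m⁻¹ =
          T.hT F e * (m * G.full.x s.val 1 * m⁻¹) * (T.hT F e)⁻¹ := by rw [he]; group
      rw [G.full.hT_conj s.isLt, (hk s).2.2.2, (hk s).2.2.2, G.full.hT_conj (Fin.isLt _)] at h1
      have h3 : G.full.x (σ s).val ((k s : F) * ((T.chi (F := F) s.val c : F) * 1) -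
          (T.chi (F := F) (σ s).val e : F) * ((k s : F) * 1)) = 1 := by
        rw [sub_eq_add_neg, ← G.full.x_add, ← G.full.x_inv, mul_inv_eq_one]
        exact h1
      have h4 := G.x_eq_one (Fin.isLt _) h3
      exact Units.ext (mul_right_cancel₀ (Units.ne_zero (k s)) (by linear_combination -h4))
    constructor
    · intro h s
      have : e = c := by
        have h5 : T.hT F (e * c⁻¹) = 1 := by
          rw [map_mul, map_inv, he, h, mul_inv_cancel_right, mul_inv_cancel]
        exact mul_inv_eq_one.mp (hinj (h5.trans (map_one (T.hT F)).symm))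
      rw [← key s, this]
    · intro h
      have h5 : T.hT F (e * c⁻¹) = 1 := (G.full.hT_eq_one_iff _).mpr fun j hj => by
        have h6 := key (σ.symm ⟨D.simple j, G.full.simple_lt hj⟩)
        rw [← h (σ.symm _), Equiv.apply_symm_apply] at h6
        rw [map_mul, map_inv, mul_inv_eq_one]
        exact h6
      rw [map_mul, map_inv, he, mul_inv_eq_one] at h5
      exact mul_inv_eq_iff_eq_mul.mp h5
  have hclflip : ∀ σ : W, T.Closed (flipSet σ.1) := fun σ => hL σ ▸ G.closed_flip (L σ)
  set P : Set ℕ := {s | IsPos D s ∧ T.chi (F := F) s c = 1}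
  let Fl : W → Set ℕ := fun σ => {s | s ∈ flipSet σ.1 ∧ T.chi (F := F) s c = 1}
  have hP : T.Closed P := G.closed_chi G.closed_pos c
  have hUcz : ∀ {S : Set ℕ}, T.Closed S → ∀ {u : GL D.Idx F}, u ∈ G.US F S →
      (u * t = t * u ↔ u ∈ G.US F {s | s ∈ S ∧ T.chi (F := F) s c = 1}) := fun hS u hu => by
    rw [← G.fixed_US hS c hu, eq_comm, mul_inv_eq_iff_eq_mul]
  have hdcomm : ∀ a ∈ D.diagonalSubgroup F, a * t = t * a := fun a ha =>
    G.full.diagonal_isMulCommutative a t ha (by rw [G.full.diagonal_eq_range]; exact ⟨c, rfl⟩)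
  let Φ : (Σ σ : W, (G.US F P × D.diagonalSubgroup F) × G.US F (Fl σ)) →
      ↥(D.group F ⊓ Subgroup.centralizer {t}) := fun p =>
    ⟨p.2.1.1.1 * p.2.1.2.1 * n p.1 * p.2.2.1, Subgroup.mem_inf.mpr
      ⟨mul_mem (mul_mem (mul_mem (G.US_le_group _ p.2.1.1.2) (G.diagonal_le_group p.2.1.2.2))
        (G.monomial_le_group (G.nw_mem_monomial _))) (G.US_le_group _ p.2.2.2),
      mul_mem (mul_mem (mul_mem
        (hcz.mpr ((hUcz G.closed_pos (G.US_mono (fun s hs => hs.1) p.2.1.1.2)).mpr p.2.1.1.2))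
        (hcz.mpr (hdcomm _ p.2.1.2.2)))
        (hcz.mpr ((hfix _ _ (G.nw_mem_monomial _) (hn p.1)).mpr
          (Finset.mem_filter.mp p.1.2).2.2)))
        (hcz.mpr ((hUcz (hclflip p.1) (G.US_mono (fun s hs => hs.1) p.2.2.2)).mpr p.2.2.2))⟩⟩
  have hbij : Function.Bijective Φ := by
    constructor
    · rintro ⟨σ, ⟨v, a⟩, u⟩ ⟨σ', ⟨v', a'⟩, u'⟩ e
      have e' : (v : GL D.Idx F) * a * n σ * u = v' * a' * n σ' * u' := congrArg Subtype.val e
      have hv : ∀ w : G.US F P, (w : GL D.Idx F) ∈ D.posUnipotent F := fun w => by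
        rw [G.posUnipotent_eq]; exact G.US_mono (fun s hs => hs.1) w.2
      have hb : ∀ (w : G.US F P) (b : D.diagonalSubgroup F),
          (w : GL D.Idx F) * b ∈ D.borelSubgroup F := fun w b =>
        mul_mem (pos_le_borel G (hv w)) (Subgroup.mem_sup_right b.2)
      obtain ⟨h1, h2⟩ := G.canonical_unique (hb v a) (hb v' a') (G.nw_mem_monomial _)
        (G.nw_mem_monomial _) (hn σ) (hn σ') (G.US_mono (fun s hs => hs.1) u.2)
        (G.US_mono (fun s hs => hs.1) u'.2) e'
      rw [G.full.diagonal_eq_range] at h1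
      obtain ⟨d, hd⟩ := h1
      have hact : G.full.RootAct (n σ') σ.1 := by
        have h := G.rootAct_mul (hn σ) (G.rootAct_hT d)
        rwa [hd, mul_inv_cancel_left, mul_one] at h
      have hσ : σ = σ' := Subtype.ext (G.rootAct_unique hact (hn σ'))
      subst hσ
      obtain ⟨hb', hu⟩ := h2 rfl
      have hm : (v' : GL D.Idx F)⁻¹ * v ∈ D.posUnipotent F ⊓ D.diagonalSubgroup F := by
        refine Subgroup.mem_inf.mpr ⟨mul_mem (inv_mem (hv v')) (hv v), ?_⟩
        have : (v' : GL D.Idx F)⁻¹ * v = a' * (a : GL D.Idx F)⁻¹ := by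
          rw [eq_mul_inv_iff_mul_eq, mul_assoc, hb', inv_mul_cancel_left]
        rw [this]
        exact mul_mem a'.2 (inv_mem a.2)
      rw [G.pos_inf_diagonal, Subgroup.mem_bot, inv_mul_eq_one] at hm
      have hvv : v = v' := Subtype.ext hm.symm
      subst hvv
      rw [Subtype.ext hu, Subtype.ext (mul_left_cancel hb')]
    · rintro ⟨g, hg⟩
      obtain ⟨hgG, hgC⟩ := Subgroup.mem_inf.mp hg
      obtain ⟨b, hb, m, hm, L', hL', u, hu, rfl⟩ := G.canonical_exists hgG
      obtain ⟨v, hv, d, rfl⟩ := G.mem_borel.mp hb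
      have htT : t ∈ D.diagonalSubgroup F := by rw [G.full.diagonal_eq_range]; exact ⟨c, rfl⟩
      have hvU : v ∈ G.US F {r | IsPos D r} := by rwa [← G.posUnipotent_eq]
      set v1 := t * v * t⁻¹
      set u1 := t * u * t⁻¹
      have hv1 : v1 ∈ D.posUnipotent F := by
        rw [G.posUnipotent_eq]
        exact G.hT_conj_US _ (fun s hs => hs.1) c hvU
      have hu1 : u1 ∈ G.US F (flipSet (G.full.pw L')) :=
        G.hT_conj_US _ (fun s hs => by obtain ⟨h, -⟩ := hs; exact h) c hu
      have hd0 : T.hT F d ∈ D.diagonalSubgroup F := by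
        rw [G.full.diagonal_eq_range]; exact ⟨d, rfl⟩
      have hmd : t * m * t⁻¹ * m⁻¹ ∈ D.diagonalSubgroup F := by
        rw [show t * m * t⁻¹ * m⁻¹ = t * (m * t⁻¹ * m⁻¹) by group]
        exact mul_mem htT ((G.diagonal_normal (F := F)).conj_mem
          ⟨t⁻¹, inv_mem (G.hT_mem_monomial c)⟩ (inv_mem htT) ⟨m, hm⟩)
      have e : v * T.hT F d * m * u = v1 * (T.hT F d * (t * m * t⁻¹ * m⁻¹)) * m * u1 := by
        have h := hcz.mp hgC
        calc v * T.hT F d * m * u = t * (v * T.hT F d * m * u) * t⁻¹ := by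
              rw [← h, mul_inv_cancel_right]
          _ = v1 * (t * T.hT F d * t⁻¹) * (t * m * t⁻¹) * u1 := by simp only [v1, u1]; group
          _ = _ := by
            rw [← hdcomm _ hd0, mul_inv_cancel_right]
            group
      obtain ⟨-, huniq⟩ := G.canonical_unique (mul_mem (pos_le_borel G hv) (Subgroup.mem_sup_right hd0))
        (mul_mem (pos_le_borel G hv1) (Subgroup.mem_sup_right (mul_mem hd0 hmd))) hm hm hL' hL'
        hu hu1 e
      obtain ⟨e1, e2⟩ := huniq rfl
      have hvv : v1⁻¹ * v ∈ D.posUnipotent F ⊓ D.diagonalSubgroup F := by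
        refine Subgroup.mem_inf.mpr ⟨mul_mem (inv_mem hv1) hv, ?_⟩
        have : v1⁻¹ * v = (T.hT F d * (t * m * t⁻¹ * m⁻¹)) * (T.hT F d)⁻¹ := by
          rw [eq_mul_inv_iff_mul_eq, mul_assoc, e1, inv_mul_cancel_left]
        rw [this]
        exact mul_mem (mul_mem hd0 hmd) (inv_mem hd0)
      rw [G.pos_inf_diagonal, Subgroup.mem_bot, inv_mul_eq_one] at hvv
      rw [hvv, mul_right_inj, left_eq_mul, mul_inv_eq_one,
        mul_inv_eq_iff_eq_mul] at e1
      have hmem : G.full.pw L' ∈ W := Finset.mem_filter.mpr ⟨Finset.mem_univ _, G.pw_mem_full L',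
        (hfix m _ hm hL').mp e1.symm⟩
      set σ : W := ⟨G.full.pw L', hmem⟩
      have hd1 : T.hT F d * (m * (n σ)⁻¹) ∈ D.diagonalSubgroup F := by
        refine mul_mem hd0 (G.mem_diagonal_of_pos (mul_mem hm (inv_mem (G.nw_mem_monomial _)))
          (G.rootAct_mul hL' (G.rootAct_inv (G.nw_mem_monomial _) (hn σ))) fun s hs => ?_)
        rw [mul_inv_cancel]
        exact hs
      have hvP : v ∈ G.US F P :=
        (hUcz G.closed_pos hvU).mp (mul_inv_eq_iff_eq_mul.mp hvv).symm
      refine ⟨⟨σ, (⟨v, hvP⟩, ⟨_, hd1⟩), ⟨u, (hUcz (hclflip σ) hu).mp ?_⟩⟩, Subtype.ext ?_⟩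
      · exact (mul_inv_eq_iff_eq_mul.mp e2.symm).symm
      · show v * (T.hT F d * (m * (n σ)⁻¹)) * n σ * u = v * T.hT F d * m * u
        group
  rw [← Nat.card_congr (Equiv.ofBijective Φ hbij), Nat.card_sigma, Full.cpoly, Finset.mul_sum,
    ← Finset.sum_coe_sort W]
  refine Finset.sum_congr rfl fun σ _ => ?_
  have hdiag : Nat.card (D.diagonalSubgroup F) = (Fintype.card F - 1) ^ D.rank := by
    rw [G.full.diagonal_eq_range, Nat.card_congr (MonoidHom.ofInjective hinj).toEquiv.symm,
      Nat.card_pi, Finset.prod_const, Finset.card_univ, Fintype.card_fin,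
      Nat.card_eq_fintype_card, Fintype.card_units]
  have hcard : Nat.card (Fl σ) =
      ((invSet σ.1).filter fun s => T.chi (F := F) s.val c = 1).card := by
    rw [← Nat.card_eq_finsetCard]
    refine Nat.card_congr
      { toFun := fun s => ⟨⟨s.1, s.2.1.1⟩,
          Finset.mem_filter.mpr ⟨mem_inv.mpr ⟨s.2.1.2.1, s.2.1.2.2⟩, s.2.2⟩⟩
        invFun := fun s => ⟨s.1.val, ⟨s.1.isLt, (mem_inv.mp (Finset.mem_filter.mp s.2).1).1,
          (mem_inv.mp (Finset.mem_filter.mp s.2).1).2⟩, (Finset.mem_filter.mp s.2).2⟩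
        left_inv := fun s => rfl
        right_inv := fun s => rfl }
  rw [Nat.card_prod, Nat.card_prod, hdiag, G.card_US hP, G.card_US (G.closed_chi (hclflip σ) c),
    hcard, Nat.card_eq_fintype_card (α := F)]

/-- An element of prime order `r` commuting with a torus element is conjugate into the torus by an
element of the centraliser, when `r` divides `q - 1` and not the number of Weyl elements fixing
the torus element. -/
theorem conj_torus_cent [Fintype F] (hinj : Function.Injective (T.hT F)) {r : ℕ} [Fact r.Prime]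
    (hQ : (Fintype.card F : ZMod r) = 1) (c : Fin D.rank → Fˣ) (W : Finset (Equiv.Perm (Fin D.nroots)))
    (hW : ∀ σ, σ ∈ W ↔ σ ∈ G.full.WJ (List.range D.rank) ∧
      ∀ s : Fin D.nroots, T.chi (F := F) (σ s).val c = T.chi s.val c)
    (hWr : ¬ r ∣ W.card) {x : GL D.Idx F}
    (hx : x ∈ D.group F ⊓ Subgroup.centralizer {T.hT F c}) (hxr : orderOf x = r) :
    ∃ h ∈ D.group F ⊓ Subgroup.centralizer {T.hT F c}, ∃ d, x = h * T.hT F d * h⁻¹ := by
  classical
  set C := D.group F ⊓ Subgroup.centralizer {T.hT F c}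
  set Tsub := (D.diagonalSubgroup F).subgroupOf C
  have hle : D.diagonalSubgroup F ≤ C := le_inf G.diagonal_le_group fun a ha => by
    rw [Subgroup.mem_centralizer_iff]
    intro y hy
    rw [Set.mem_singleton_iff.mp hy]
    exact (G.full.diagonal_isMulCommutative a _ ha
      (by rw [G.full.diagonal_eq_range]; exact ⟨c, rfl⟩)).symm
  have hdiag : Nat.card (D.diagonalSubgroup F) = (Fintype.card F - 1) ^ D.rank := by
    rw [G.full.diagonal_eq_range, Nat.card_congr (MonoidHom.ofInjective hinj).toEquiv.symm,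
      Nat.card_pi, Finset.prod_const, Finset.card_univ, Fintype.card_fin,
      Nat.card_eq_fintype_card, Fintype.card_units]
  have hidx : ¬ r ∣ Tsub.index := by
    have h := Tsub.card_mul_index
    rw [Nat.card_congr (Subgroup.subgroupOfEquivOfLe hle).toEquiv, card_cent_inj G hinj c,
      ← hdiag, mul_assoc, mul_left_comm] at h
    rw [Nat.eq_of_mul_eq_mul_left Nat.card_pos h, ← CharP.cast_eq_zero_iff (ZMod r) r, Nat.cast_mul,
      Nat.cast_pow, hQ, one_pow, one_mul, Full.cpoly, Nat.cast_sum]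
    simp only [Nat.cast_pow, hQ, one_pow, Finset.sum_const, nsmul_eq_mul, mul_one]
    rw [CharP.cast_eq_zero_iff (ZMod r) r]
    convert hWr using 3
    ext σ
    simp [hW]
  obtain ⟨P0⟩ : Nonempty (Sylow r Tsub) := inferInstance
  have hP : Nat.card (P0.1.map Tsub.subtype) = r ^ (Nat.card C).factorization r := by
    rw [Subgroup.card_map_of_injective Tsub.subtype_injective, P0.card_eq_multiplicity,
      ← Tsub.card_mul_index, Nat.factorization_mul Nat.card_pos.ne' Subgroup.index_ne_zero_of_finite,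
      Finsupp.add_apply, Nat.factorization_eq_zero_of_not_dvd hidx, add_zero]
  let P : Sylow r C := Sylow.ofCard _ hP
  let xg : C := ⟨x, hx⟩
  have hxg : orderOf xg = r := by rw [← hxr, ← Subgroup.orderOf_coe]
  have hpg : IsPGroup r (Subgroup.zpowers xg) := IsPGroup.of_card (n := 1) (by
    rw [Nat.card_zpowers, hxg, pow_one])
  obtain ⟨Q, hQle⟩ := hpg.exists_le_sylow
  obtain ⟨a, ha⟩ := MulAction.exists_smul_eq C P Q
  have hxQ : xg ∈ ((a • P : Sylow r C) : Subgroup C) := by
    rw [ha]; exact hQle (Subgroup.mem_zpowers _)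
  rw [Sylow.coe_subgroup_smul, Subgroup.mem_smul_pointwise_iff_exists] at hxQ
  obtain ⟨y, hy, hxy⟩ := hxQ
  obtain ⟨z, -, rfl⟩ : ∃ z ∈ P0.1, Tsub.subtype z = y := hy
  have hz : ((z : C) : GL D.Idx F) ∈ D.diagonalSubgroup F := z.2
  rw [G.full.diagonal_eq_range] at hz
  obtain ⟨d, hd⟩ := hz
  refine ⟨a, a.2, d, ?_⟩
  have := congrArg Subtype.val hxy
  rw [MulAut.smul_def, MulAut.conj_apply] at this
  exact (by rw [hd]; exact this.symm)

end CfsgLib.E7SixtyFive
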