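import Cfsg.Prelude.Def_Classical
import Mathlib.FieldTheory.Finite.Extension
import Mathlib.FieldTheory.Finite.Trace

/-!
`SL₂(64)` has an element of order sixty-five and embeds in `PSL₂(64)`, `PSp₄(8)`, `PSL₄(8)`,
`PSU₄(8)` and `PSp₆(8)`.
-/

set_option autoImplicit false
set_option linter.style.haveILetI false

namespace CfsgLib.E7SixtyFive

open Matrix

theorem centre_trivial_two {K : Type*} [Field K] [CharP K 2] :
    Subgroup.center (SpecialLinearGroup (Fin 2) K) = ⊥ := by
  rw [eq_bot_iff]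
  intro A hA
  obtain ⟨r, hr, he⟩ := Matrix.SpecialLinearGroup.mem_center_iff.mp hA
  rw [Fintype.card_fin] at hr
  have h1 : r = 1 := sub_eq_zero.mp ((pow_eq_zero_iff two_ne_zero).mp (by
    linear_combination hr + (1 - r) * CharTwo.two_eq_zero (R := K)))
  rw [Subgroup.mem_bot]
  refine Subtype.ext ?_
  rw [← he, h1, map_one]
  rfl

/-- An injective map from a group with trivial centre stays injective modulo the centre. -/
theorem injective_mk_center {A G : Type*} [Group A] [Group G] (hA : Subgroup.center A = ⊥)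
    {ψ : A →* G} (hψ : Function.Injective ψ) :
    Function.Injective ((QuotientGroup.mk' (Subgroup.center G)).comp ψ) := by
  refine (injective_iff_map_eq_one _).mpr fun a ha => ?_
  rw [MonoidHom.comp_apply, QuotientGroup.mk'_apply, QuotientGroup.eq_one_iff,
    Subgroup.mem_center_iff] at ha
  have : a ∈ Subgroup.center A := Subgroup.mem_center_iff.mpr fun b => hψ (by
    rw [map_mul, map_mul]; exact ha (ψ b))
  rwa [hA, Subgroup.mem_bot] at this

theorem charP_two {K : Type*} [Field K] [Fintype K] {n : ℕ} (h : Fintype.card K = 2 ^ n) :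
    CharP K 2 := by
  obtain ⟨p, hp⟩ := CharP.exists K
  obtain ⟨k, hk, hk'⟩ := FiniteField.card K p
  rw [h] at hk'
  have h2 : p ∣ 2 := hk.dvd_of_dvd_pow (hk'.symm ▸ dvd_pow_self p k.ne_zero)
  obtain rfl := (Nat.prime_dvd_prime_iff_eq hk Nat.prime_two).mp h2
  exact hp

/-- `SL₂` over the field with `64` elements has an element of order `65`. -/
theorem exists_sl_two {K : Type*} [Field K] [Fintype K] (h64 : Fintype.card K = 64) :
    ∃ A : SpecialLinearGroup (Fin 2) K, orderOf A = 65 := by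
  classical
  haveI : Fact (Nat.Prime 2) := ⟨Nat.prime_two⟩
  haveI := charP_two (K := K) (n := 6) (h64.trans (by norm_num))
  let E := FiniteField.Extension K 2 2
  letI : Fintype E := Fintype.ofFinite E
  have hE : Fintype.card E = 4096 := by
    rw [← Nat.card_eq_fintype_card, FiniteField.natCard_extension, Nat.card_eq_fintype_card, h64]
    norm_num
  obtain ⟨g, hg⟩ := IsCyclic.exists_generator (α := Eˣ)
  have hN : orderOf g = 4095 := by
    rw [orderOf_eq_card_of_forall_mem_zpowers hg, Nat.card_eq_fintype_card, Fintype.card_units, hE]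
  set η : E := ((g ^ 63 : Eˣ) : E)
  have hη : orderOf η = 65 := by
    rw [show orderOf η = orderOf (g ^ 63) from orderOf_units, orderOf_pow, hN]
    norm_num
  let b : Module.Basis (Fin 2) K E :=
    Module.finBasisOfFinrankEq K E (FiniteField.finrank_extension K 2 2)
  let M := Algebra.leftMulMatrix b
  have hdet : (M η).det = 1 := by
    rw [← Algebra.norm_eq_matrix_det b]
    refine (algebraMap K E).injective ?_
    rw [FiniteField.algebraMap_norm_eq_pow_sum, map_one, FiniteField.finrank_extension,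
      Finset.sum_range_succ, Finset.sum_range_one, Nat.card_eq_fintype_card, h64]
    norm_num
    rw [← hη, pow_orderOf_eq_one]
  refine ⟨⟨M η, hdet⟩, ?_⟩
  rw [← hη, ← orderOf_injective (SpecialLinearGroup.toGL.comp (MonoidHom.id _))
    (by simpa using SpecialLinearGroup.toGL_injective) (⟨M η, hdet⟩ : SpecialLinearGroup (Fin 2) K)]
  rw [← orderOf_units]
  exact orderOf_injective M.toRingHom.toMonoidHom (Algebra.leftMulMatrix_injective b) η

section Symplectic

variable {F : Type*} [Field F] {E : Type*} [Field E] [Algebra F E]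

/-- The trace form in a basis. -/
noncomputable def trMat (b : Module.Basis (Fin 2) F E) : Matrix (Fin 2) (Fin 2) F :=
  (Algebra.traceForm F E).toMatrix b

theorem trMat_transpose (b : Module.Basis (Fin 2) F E) : (trMat b)ᵀ = trMat b := by
  ext i j
  simp [trMat, LinearMap.BilinForm.toMatrix_apply, Algebra.traceForm_apply, mul_comm]

theorem trMat_mul (b : Module.Basis (Fin 2) F E) (x : E) :
    trMat b * Algebra.leftMulMatrix b x = (Algebra.leftMulMatrix b x)ᵀ * trMat b := by
  ext i j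
  have h1 : (trMat b * Algebra.leftMulMatrix b x) i j = Algebra.trace F E (b i * (x * b j)) := by
    conv_rhs => rw [← b.sum_repr (x * b j), Finset.mul_sum, map_sum]
    rw [Matrix.mul_apply]
    refine Finset.sum_congr rfl fun k _ => ?_
    rw [mul_smul_comm, map_smul, Algebra.leftMulMatrix_eq_repr_mul, trMat,
      LinearMap.BilinForm.toMatrix_apply, Algebra.traceForm_apply, smul_eq_mul, mul_comm]
  have h2 : ((Algebra.leftMulMatrix b x)ᵀ * trMat b) i j =
      Algebra.trace F E ((x * b i) * b j) := by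
    conv_rhs => rw [← b.sum_repr (x * b i), Finset.sum_mul, map_sum]
    rw [Matrix.mul_apply]
    refine Finset.sum_congr rfl fun k _ => ?_
    rw [smul_mul_assoc, map_smul, Matrix.transpose_apply, Algebra.leftMulMatrix_eq_repr_mul, trMat,
      LinearMap.BilinForm.toMatrix_apply, Algebra.traceForm_apply, smul_eq_mul]
  rw [h1, h2]
  congr 1
  ring

/-- The restriction of scalars of two by two matrices, in a symplectic basis. -/
noncomputable def resMat (b : Module.Basis (Fin 2) F E) (A : Matrix (Fin 2) (Fin 2) E) :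
    Matrix (Fin 2 ⊕ Fin 2) (Fin 2 ⊕ Fin 2) F :=
  Matrix.fromBlocks (Algebra.leftMulMatrix b (A 0 0))
    (Algebra.leftMulMatrix b (A 0 1) * (trMat b)⁻¹)
    (trMat b * Algebra.leftMulMatrix b (A 1 0))
    (trMat b * Algebra.leftMulMatrix b (A 1 1) * (trMat b)⁻¹)

variable [Algebra.IsSeparable F E] (b : Module.Basis (Fin 2) F E)

theorem isUnit_trMat : IsUnit (trMat b).det :=
  isUnit_iff_ne_zero.mpr (det_traceForm_ne_zero b)

theorem trMat_mul_inv (x : E) :
    (trMat b)⁻¹ * (Algebra.leftMulMatrix b x)ᵀ = Algebra.leftMulMatrix b x * (trMat b)⁻¹ := by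
  have h := trMat_mul b x
  calc (trMat b)⁻¹ * (Algebra.leftMulMatrix b x)ᵀ
      = (trMat b)⁻¹ * ((Algebra.leftMulMatrix b x)ᵀ * trMat b) * (trMat b)⁻¹ := by
        rw [mul_assoc, mul_assoc, Matrix.mul_nonsing_inv _ (isUnit_trMat b), mul_one]
    _ = _ := by rw [← h, ← mul_assoc, Matrix.nonsing_inv_mul _ (isUnit_trMat b), one_mul]

theorem resMat_one : resMat b 1 = 1 := by
  simp [resMat, Matrix.mul_nonsing_inv _ (isUnit_trMat b), Matrix.fromBlocks_one]

theorem resMat_mul (A B : Matrix (Fin 2) (Fin 2) E) :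
    resMat b (A * B) = resMat b A * resMat b B := by
  have hc : ∀ M : Matrix (Fin 2) (Fin 2) F, (trMat b)⁻¹ * (trMat b * M) = M := fun M => by
    rw [← mul_assoc, Matrix.nonsing_inv_mul _ (isUnit_trMat b), one_mul]
  simp only [resMat, Matrix.fromBlocks_multiply, Matrix.mul_apply, Fin.sum_univ_two, map_add,
    map_mul, mul_add, add_mul, mul_assoc, hc]

theorem resMat_symp {A : Matrix (Fin 2) (Fin 2) E} (hA : A.det = 1) :
    resMat b A ∈ Matrix.symplecticGroup (Fin 2) F := by
  rw [SymplecticGroup.mem_iff]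
  rw [Matrix.det_fin_two] at hA
  have hTT : (trMat b)⁻¹ * trMat b = 1 := Matrix.nonsing_inv_mul _ (isUnit_trMat b)
  have hTT' : trMat b * (trMat b)⁻¹ = 1 := Matrix.mul_nonsing_inv _ (isUnit_trMat b)
  have hST : ∀ M : Matrix (Fin 2) (Fin 2) F, (trMat b)⁻¹ * (trMat b * M) = M := fun M => by
    rw [← mul_assoc, hTT, one_mul]
  have hST' : ∀ M : Matrix (Fin 2) (Fin 2) F, M * (trMat b)⁻¹ * trMat b = M := fun M => by
    rw [mul_assoc, hTT, mul_one]
  have hS : ∀ x, (trMat b)⁻¹ * ((Algebra.leftMulMatrix b) x)ᵀ = (Algebra.leftMulMatrix b) x * (trMat b)⁻¹ := trMat_mul_inv b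
  have t1 : ∀ x, ((Algebra.leftMulMatrix b) x * (trMat b)⁻¹)ᵀ = (Algebra.leftMulMatrix b) x * (trMat b)⁻¹ := fun x => by
    rw [Matrix.transpose_mul, Matrix.transpose_nonsing_inv, trMat_transpose, hS]
  have t2 : ∀ x, (trMat b * (Algebra.leftMulMatrix b) x)ᵀ = trMat b * (Algebra.leftMulMatrix b) x := fun x => by
    rw [Matrix.transpose_mul, trMat_transpose, ← trMat_mul b x]
  have t3 : ∀ x, (trMat b * (Algebra.leftMulMatrix b) x * (trMat b)⁻¹)ᵀ = (Algebra.leftMulMatrix b) x := fun x => by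
    rw [Matrix.transpose_mul, Matrix.transpose_nonsing_inv, trMat_transpose, t2, hST]
  have c1 : ∀ x y, (Algebra.leftMulMatrix b) x * (Algebra.leftMulMatrix b) y = (Algebra.leftMulMatrix b) (x * y) := fun x y => (map_mul (Algebra.leftMulMatrix b) x y).symm
  rw [resMat, Matrix.J, Matrix.fromBlocks_transpose, Matrix.fromBlocks_multiply,
    Matrix.fromBlocks_multiply, t1, t2, t3]
  simp only [mul_zero, mul_one, mul_neg, zero_add, add_zero]
  congr 1
  · rw [mul_assoc, hS, ← mul_assoc, c1, neg_mul, ← mul_assoc, c1, mul_comm (A 0 1), add_neg_cancel]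
  · rw [mul_assoc, hST, c1, neg_mul, c1, ← sub_eq_add_neg, ← neg_sub, ← map_sub, hA, map_one]
  · have e : ∀ x y, trMat b * (Algebra.leftMulMatrix b) x * (trMat b)⁻¹ * ((Algebra.leftMulMatrix b) y)ᵀ = trMat b * (Algebra.leftMulMatrix b) (x * y) * (trMat b)⁻¹ :=
      fun x y => by
        rw [mul_assoc _ (trMat b)⁻¹, hS, ← mul_assoc, mul_assoc (trMat b), c1]
    rw [e, neg_mul, ← mul_assoc (trMat b * (Algebra.leftMulMatrix b) (A 1 0)), mul_assoc (trMat b) ((Algebra.leftMulMatrix b) (A 1 0)), c1,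
      ← sub_eq_add_neg, ← sub_mul, ← mul_sub, ← map_sub, mul_comm (A 1 1), mul_comm (A 1 0), hA,
      map_one, mul_one, hTT']
  · rw [← mul_assoc, hST', mul_assoc, c1, neg_mul, mul_assoc, c1, mul_comm (A 1 1), add_neg_cancel]

/-- `SL₂(E)` inside the symplectic group. -/
noncomputable def toSp : SpecialLinearGroup (Fin 2) E →* Matrix.symplecticGroup (Fin 2) F where
  toFun A := ⟨resMat b A.1, resMat_symp b A.2⟩
  map_one' := Subtype.ext (resMat_one b)
  map_mul' A B := Subtype.ext (resMat_mul b A.1 B.1)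

theorem toSp_injective : Function.Injective (toSp b) := by
  intro A B h
  have h1 : resMat b A.1 = resMat b B.1 := congrArg Subtype.val h
  rw [resMat, resMat, Matrix.fromBlocks_inj] at h1
  obtain ⟨h00, h01, h10, h11⟩ := h1
  have inj := Algebra.leftMulMatrix_injective b
  have hinv : ∀ M N : Matrix (Fin 2) (Fin 2) F, M * (trMat b)⁻¹ = N * (trMat b)⁻¹ → M = N :=
    fun M N e => by
      simpa [mul_assoc, Matrix.nonsing_inv_mul _ (isUnit_trMat b)] using
        congrArg (fun X => X * trMat b) e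
  have hleft : ∀ M N : Matrix (Fin 2) (Fin 2) F, trMat b * M = trMat b * N → M = N :=
    fun M N e => by
      simpa [← mul_assoc, Matrix.nonsing_inv_mul _ (isUnit_trMat b)] using
        congrArg (fun X => (trMat b)⁻¹ * X) e
  refine Subtype.ext (Matrix.ext fun i j => ?_)
  fin_cases i <;> fin_cases j
  · exact inj h00
  · exact inj (hinv _ _ h01)
  · exact inj (hleft _ _ h10)
  · exact inj (hleft _ _ (hinv _ _ h11))

end Symplectic

section Six

variable {F : Type*} [Field F]

/-- The position of the four coordinates among the six. -/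
def lift3 (A : Matrix (Fin 2) (Fin 2) F) (c : F) : Matrix (Fin 3) (Fin 3) F :=
  !![A 0 0, A 0 1, 0; A 1 0, A 1 1, 0; 0, 0, c]

theorem lift3_mul (A B : Matrix (Fin 2) (Fin 2) F) (c d : F) :
    lift3 A c * lift3 B d = lift3 (A * B) (c * d) := by
  ext i j
  fin_cases i <;> fin_cases j <;> simp [lift3, Matrix.mul_apply, Fin.sum_univ_three]

theorem lift3_add (A B : Matrix (Fin 2) (Fin 2) F) (c d : F) :
    lift3 A c + lift3 B d = lift3 (A + B) (c + d) := by
  ext i j
  fin_cases i <;> fin_cases j <;> simp [lift3]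

theorem lift3_neg (A : Matrix (Fin 2) (Fin 2) F) (c : F) : -lift3 A c = lift3 (-A) (-c) := by
  ext i j
  fin_cases i <;> fin_cases j <;> simp [lift3]

theorem lift3_transpose (A : Matrix (Fin 2) (Fin 2) F) (c : F) :
    (lift3 A c)ᵀ = lift3 Aᵀ c := by
  ext i j
  fin_cases i <;> fin_cases j <;> simp [lift3]

theorem lift3_one : lift3 (1 : Matrix (Fin 2) (Fin 2) F) 1 = 1 := by
  ext i j
  fin_cases i <;> fin_cases j <;> simp [lift3]

theorem lift3_zero : lift3 (0 : Matrix (Fin 2) (Fin 2) F) 0 = 0 := by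
  ext i j
  fin_cases i <;> fin_cases j <;> simp [lift3]

theorem lift3_inj {A B : Matrix (Fin 2) (Fin 2) F} {c d : F} (h : lift3 A c = lift3 B d) :
    A = B := by
  refine Matrix.ext fun i j => ?_
  have := congrFun (congrFun h i.castSucc) j.castSucc
  fin_cases i <;> fin_cases j <;> simpa [lift3] using this

/-- A symplectic matrix with a trivial plane added. -/
def lift6 (A : Matrix (Fin 2 ⊕ Fin 2) (Fin 2 ⊕ Fin 2) F) :
    Matrix (Fin 3 ⊕ Fin 3) (Fin 3 ⊕ Fin 3) F :=
  Matrix.fromBlocks (lift3 A.toBlocks₁₁ 1) (lift3 A.toBlocks₁₂ 0) (lift3 A.toBlocks₂₁ 0)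
    (lift3 A.toBlocks₂₂ 1)

theorem lift6_one : lift6 (1 : Matrix (Fin 2 ⊕ Fin 2) (Fin 2 ⊕ Fin 2) F) = 1 := by
  rw [lift6, ← Matrix.fromBlocks_one, Matrix.toBlocks_fromBlocks₁₁, Matrix.toBlocks_fromBlocks₁₂,
    Matrix.toBlocks_fromBlocks₂₁, Matrix.toBlocks_fromBlocks₂₂, lift3_one, lift3_zero,
    Matrix.fromBlocks_one]

theorem lift6_mul (A B : Matrix (Fin 2 ⊕ Fin 2) (Fin 2 ⊕ Fin 2) F) :
    lift6 (A * B) = lift6 A * lift6 B := by
  conv_lhs => rw [← Matrix.fromBlocks_toBlocks A, ← Matrix.fromBlocks_toBlocks B,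
    Matrix.fromBlocks_multiply]
  simp [lift6, Matrix.fromBlocks_multiply, lift3_mul, lift3_add]

theorem lift6_symp {A : Matrix (Fin 2 ⊕ Fin 2) (Fin 2 ⊕ Fin 2) F}
    (hA : A ∈ Matrix.symplecticGroup (Fin 2) F) :
    lift6 A ∈ Matrix.symplecticGroup (Fin 3) F := by
  rw [SymplecticGroup.mem_iff] at hA ⊢
  rw [← Matrix.fromBlocks_toBlocks A, Matrix.J, Matrix.fromBlocks_transpose,
    Matrix.fromBlocks_multiply, Matrix.fromBlocks_multiply, Matrix.fromBlocks_inj] at hA
  obtain ⟨h1, h2, h3, h4⟩ := hA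
  simp only [mul_zero, zero_add, add_zero, mul_one, mul_neg, neg_mul] at h1 h2 h3 h4
  rw [lift6, Matrix.J, ← lift3_one, ← lift3_zero, lift3_neg, Matrix.fromBlocks_transpose,
    Matrix.fromBlocks_multiply, Matrix.fromBlocks_multiply]
  simp [lift3_mul, lift3_add, lift3_transpose, h1, h2, h3, h4]

/-- `Sp₄` inside `Sp₆`. -/
def toSp3 : Matrix.symplecticGroup (Fin 2) F →* Matrix.symplecticGroup (Fin 3) F where
  toFun A := ⟨lift6 A.1, lift6_symp A.2⟩
  map_one' := Subtype.ext lift6_one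
  map_mul' A B := Subtype.ext (lift6_mul A.1 B.1)

theorem toSp3_injective : Function.Injective (toSp3 (F := F)) := by
  intro A B h
  have h1 : lift6 A.1 = lift6 B.1 := congrArg Subtype.val h
  rw [lift6, lift6, Matrix.fromBlocks_inj] at h1
  obtain ⟨a, b, c, d⟩ := h1
  refine Subtype.ext ?_
  rw [← Matrix.fromBlocks_toBlocks A.1, ← Matrix.fromBlocks_toBlocks B.1, lift3_inj a, lift3_inj b,
    lift3_inj c, lift3_inj d]

variable [CharP F 2]

theorem det_symp {A : Matrix (Fin 2 ⊕ Fin 2) (Fin 2 ⊕ Fin 2) F}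
    (hA : A ∈ Matrix.symplecticGroup (Fin 2) F) : A.det = 1 := by
  have h := congrArg Matrix.det (SymplecticGroup.mem_iff.mp hA)
  rw [det_mul, det_mul, det_transpose] at h
  have hJ : (Matrix.J (Fin 2) F).det ≠ 0 := fun e => by
    have := Matrix.J_det_mul_J_det (Fin 2) F
    rw [e, zero_mul] at this
    exact zero_ne_one this
  have h2 : A.det ^ 2 = 1 := mul_right_cancel₀ hJ (by linear_combination h)
  exact sub_eq_zero.mp ((pow_eq_zero_iff two_ne_zero).mp (by
    linear_combination h2 + (1 - A.det) * CharTwo.two_eq_zero (R := F)))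

/-- `Sp₄` inside `SL₄`. -/
def toSL4 : Matrix.symplecticGroup (Fin 2) F →* SpecialLinearGroup (Fin 4) F where
  toFun A := ⟨Matrix.reindexAlgEquiv F F finSumFinEquiv A.1,
    (Matrix.det_reindexAlgEquiv F F finSumFinEquiv A.1).trans (det_symp A.2)⟩
  map_one' := Subtype.ext (map_one (Matrix.reindexAlgEquiv F F finSumFinEquiv))
  map_mul' A B := Subtype.ext (map_mul (Matrix.reindexAlgEquiv F F finSumFinEquiv) A.1 B.1)

theorem toSL4_injective : Function.Injective (toSL4 (F := F)) := fun _ _ h =>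
  Subtype.ext ((Matrix.reindexAlgEquiv F F finSumFinEquiv).injective (congrArg Subtype.val h))

end Six

section Unitary

variable {F K : Type*} [Field F] [Fintype F] [Field K] [Fintype K] [CharP F 2] [CharP K 2]

theorem to_unitary (ι : F →+* K) {q : ℕ} (hq : Fintype.card F = q)
    (hK : Fintype.card K = q ^ 2) :
    ∃ ψ : Matrix.symplecticGroup (Fin 2) F →* Cfsg.SU 4 K q, Function.Injective ψ := by
  classical
  obtain ⟨e, hqe⟩ : ∃ e, q = 2 ^ e := by
    obtain ⟨n, -, hn⟩ := FiniteField.card F 2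
    exact ⟨n, hq ▸ hn⟩
  haveI : Fact (Nat.Prime 2) := ⟨Nat.prime_two⟩
  set τ : K →+* K := iterateFrobenius K 2 e
  have hτ : ∀ x, τ x = x ^ q := fun x => by rw [hqe]; exact iterateFrobenius_def 2 e x
  have hτ2 : ∀ x, τ (τ x) = x := fun x => by
    rw [hτ, hτ, ← pow_mul, ← sq, ← hK, FiniteField.pow_card]
  have hτι : ∀ x, τ (ι x) = ι x := fun x => by
    rw [hτ, ← map_pow, ← hq, FiniteField.pow_card]
  have hq1 : 1 < q := hq ▸ Fintype.one_lt_card
  -- an element of trace one
  obtain ⟨a, ha⟩ : ∃ a : K, a + τ a = 1 := by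
    obtain ⟨c, hc⟩ : ∃ c : K, c + τ c ≠ 0 := by
      by_contra h
      push Not at h
      have hall : ∀ c : K, c ^ q = c := fun c => by
        rw [← hτ]; exact (CharTwo.add_eq_zero.mp (h c)).symm
      have hle : Fintype.card K ≤ q := by
        rw [← Finset.card_univ, ← FiniteField.X_pow_card_sub_X_natDegree_eq K hq1]
        exact Polynomial.card_le_degree_of_subset_roots fun x _ => by
          rw [Polynomial.mem_roots (FiniteField.X_pow_card_sub_X_ne_zero K hq1)]
          simp [hall]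
      rw [hK] at hle
      nlinarith
    refine ⟨c / (c + τ c), ?_⟩
    rw [map_div₀, map_add, hτ2, add_comm (τ c) c, ← add_div, div_self hc]
  have h2 : (2 : K) = 0 := CharTwo.two_eq_zero
  let P : Matrix (Fin 2 ⊕ Fin 2) (Fin 2 ⊕ Fin 2) K :=
    Matrix.fromBlocks 1 1 (Matrix.scalar (Fin 2) a) (Matrix.scalar (Fin 2) (a + 1))
  have hP : P * (P.map τ)ᵀ = Matrix.J (Fin 2) K := by
    have hs : ∀ c : K, ((Matrix.scalar (Fin 2) c).map τ)ᵀ = Matrix.scalar (Fin 2) (τ c) := fun c => by
      simp [Matrix.scalar_apply, Matrix.diagonal_map]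
    rw [Matrix.fromBlocks_map, Matrix.fromBlocks_transpose, hs, hs,
      Matrix.map_one τ (map_zero τ) (map_one τ), Matrix.transpose_one, Matrix.fromBlocks_multiply,
      Matrix.J]
    simp only [← map_one (Matrix.scalar (Fin 2) : K →+* Matrix (Fin 2) (Fin 2) K), ← map_mul,
      ← map_add, ← map_neg, ← map_zero (Matrix.scalar (Fin 2) : K →+* Matrix (Fin 2) (Fin 2) K)]
    rw [map_add τ, map_one τ]
    congr 2
    · linear_combination h2
    · linear_combination (τ a + 1) * h2
    · linear_combination a * h2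
    · linear_combination (a * τ a) * h2 + ha + h2
  have hPu : IsUnit P := by
    refine (Matrix.isUnit_iff_isUnit_det P).mpr (isUnit_iff_ne_zero.mpr fun e' => ?_)
    have := congrArg Matrix.det hP
    rw [det_mul, e', zero_mul] at this
    have hJ := Matrix.J_det_mul_J_det (Fin 2) K
    rw [← this, zero_mul] at hJ
    exact zero_ne_one hJ
  obtain ⟨Pu, hPu⟩ := hPu
  let R := Matrix.reindexAlgEquiv K K (finSumFinEquiv : Fin 2 ⊕ Fin 2 ≃ Fin 4)
  let χ : Matrix (Fin 2 ⊕ Fin 2) (Fin 2 ⊕ Fin 2) F →* Matrix (Fin 4) (Fin 4) K :=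
    { toFun := fun A => R ((Pu⁻¹ : (Matrix (Fin 2 ⊕ Fin 2) (Fin 2 ⊕ Fin 2) K)ˣ).1 * A.map ι * Pu.1)
      map_one' := by simp [Matrix.map_one]
      map_mul' := fun A B => by
        rw [← map_mul]
        congr 1
        rw [Matrix.map_mul]
        simp only [mul_assoc, Units.mul_inv_cancel_left] }
  have hdet : ∀ A : Matrix.symplecticGroup (Fin 2) F, (χ A.1).det = 1 := fun A => by
    show (R _).det = 1
    rw [show R _ = Matrix.reindexAlgEquiv K K finSumFinEquiv _ from rfl, Matrix.det_reindexAlgEquiv,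
      det_mul, det_mul, mul_comm, ← mul_assoc, ← det_mul, Units.mul_inv, det_one, one_mul,
      ← RingHom.mapMatrix_apply, ← RingHom.map_det, det_symp A.2, map_one]
  have hherm : ∀ A : Matrix.symplecticGroup (Fin 2) F, (χ A.1)ᵀ * (χ A.1).map τ = 1 := by
    intro A
    set B := (Pu⁻¹ : (Matrix (Fin 2 ⊕ Fin 2) (Fin 2 ⊕ Fin 2) K)ˣ).1 * A.1.map ι * Pu.1
    have hB : B * (B.map τ)ᵀ = 1 := by
      have hA : A.1.map ι * Matrix.J (Fin 2) K * (A.1.map ι)ᵀ = Matrix.J (Fin 2) K := by
        have h := congrArg (fun M => M.map ι) (SymplecticGroup.mem_iff.mp A.2)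
        simp only [Matrix.map_mul, Matrix.transpose_map] at h
        have hJ : (Matrix.J (Fin 2) F).map ι = Matrix.J (Fin 2) K := by
          simp [Matrix.J, Matrix.fromBlocks_map, Matrix.map_zero, Matrix.map_one, Matrix.map_neg]
        rwa [hJ] at h
      have hAτ : (A.1.map ι).map τ = A.1.map ι := by ext i j; simp [hτι]
      rw [Matrix.map_mul, Matrix.map_mul, Matrix.transpose_mul, Matrix.transpose_mul, hAτ]
      calc (Pu⁻¹).1 * A.1.map ι * Pu.1 *
            ((Pu.1.map τ)ᵀ * ((A.1.map ι)ᵀ * (((Pu⁻¹).1).map τ)ᵀ))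
          = (Pu⁻¹).1 * (A.1.map ι * (Pu.1 * (Pu.1.map τ)ᵀ) * (A.1.map ι)ᵀ) *
              (((Pu⁻¹).1).map τ)ᵀ := by simp only [mul_assoc]
        _ = (Pu⁻¹).1 * (Pu.1 * (Pu.1.map τ)ᵀ) * (((Pu⁻¹).1).map τ)ᵀ := by rw [hPu, hP, hA]
        _ = _ := by
          rw [← mul_assoc (Pu⁻¹).1, Units.inv_mul, one_mul, ← Matrix.transpose_mul, ← Matrix.map_mul,
            Units.inv_mul, Matrix.map_one τ (map_zero τ) (map_one τ), Matrix.transpose_one]
    have hB' : Bᵀ * B.map τ = 1 := by
      have h := congrArg Matrix.transpose (mul_eq_one_comm.mp hB)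
      rwa [Matrix.transpose_mul, Matrix.transpose_transpose, Matrix.transpose_one] at h
    show (R B)ᵀ * (R B).map τ = 1
    have hR1 : (R B)ᵀ = R Bᵀ := rfl
    have hR2 : (R B).map τ = R (B.map τ) := rfl
    rw [hR1, hR2, ← map_mul, hB', map_one]
  have hmem : ∀ A : Matrix.symplecticGroup (Fin 2) F,
      (⟨χ A.1, hdet A⟩ : SpecialLinearGroup (Fin 4) K) ∈ Cfsg.SU 4 K q := by
    intro A u v
    show ∑ i, (χ A.1 *ᵥ u) i * (χ A.1 *ᵥ v) i ^ q = ∑ i, u i * v i ^ q
    simp only [← hτ]
    show (χ A.1 *ᵥ u) ⬝ᵥ (τ ∘ (χ A.1 *ᵥ v)) = u ⬝ᵥ (τ ∘ v)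
    rw [show τ ∘ (χ A.1 *ᵥ v) = (χ A.1).map τ *ᵥ (τ ∘ v) from
        funext fun i => RingHom.map_mulVec τ _ _ i,
      dotProduct_mulVec, ← Matrix.mulVec_transpose, mulVec_mulVec]
    rw [show ((χ A.1).map τ)ᵀ * χ A.1 = 1 by
      have h := congrArg Matrix.transpose (hherm A)
      rwa [Matrix.transpose_mul, Matrix.transpose_transpose, Matrix.transpose_one] at h,
      one_mulVec]
  refine ⟨{ toFun := fun A => ⟨⟨χ A.1, hdet A⟩, hmem A⟩
            map_one' := Subtype.ext (Subtype.ext (map_one χ))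
            map_mul' := fun A B => Subtype.ext (Subtype.ext (map_mul χ A.1 B.1)) }, fun A B h => ?_⟩
  have h1 : χ A.1 = χ B.1 := congrArg (fun x : Cfsg.SU 4 K q => x.1.1) h
  have h2 := R.injective h1
  rw [Units.mul_left_inj, Units.mul_right_inj] at h2
  exact Subtype.ext (Matrix.map_injective ι.injective h2)

end Unitary

theorem finrank_two {L : Type*} [Field L] [Fintype L] [Algebra (ZMod 2) L] {n : ℕ}
    (h : Fintype.card L = 2 ^ n) : Module.finrank (ZMod 2) L = n := by
  rw [Module.card_eq_pow_finrank (K := ZMod 2) (V := L), ZMod.card] at h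
  exact Nat.pow_right_injective le_rfl h

/-- An element of order sixty-five in the quotient by the centre. -/
theorem order_quot {K : Type*} [Field K] [CharP K 2] {G : Type*} [Group G]
    {A : SpecialLinearGroup (Fin 2) K} (hA : orderOf A = 65)
    {ψ : SpecialLinearGroup (Fin 2) K →* G} (hψ : Function.Injective ψ) :
    ∃ x : G ⧸ Subgroup.center G, orderOf x = 65 :=
  ⟨_, (orderOf_injective _ (injective_mk_center centre_trivial_two hψ) A).trans hA⟩

/-- Each of the five groups has an element of order sixty-five. -/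
theorem five_groups {F₈ F₆₄ : Type*} [Field F₈] [Fintype F₈] (h8 : Fintype.card F₈ = 8)
    [Field F₆₄] [Fintype F₆₄] (h64 : Fintype.card F₆₄ = 64) :
    (∃ x : Matrix.ProjectiveSpecialLinearGroup (Fin 2) F₆₄, orderOf x = 65) ∧
      (∃ x : Cfsg.PSp 2 F₈, orderOf x = 65) ∧
      (∃ x : Matrix.ProjectiveSpecialLinearGroup (Fin 4) F₈, orderOf x = 65) ∧
      (∃ x : Cfsg.PSU 4 F₆₄ 8, orderOf x = 65) ∧ (∃ x : Cfsg.PSp 3 F₈, orderOf x = 65) := by
  classical
  haveI : Fact (Nat.Prime 2) := ⟨Nat.prime_two⟩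
  haveI := charP_two (K := F₈) (n := 3) (h8.trans (by norm_num))
  haveI := charP_two (K := F₆₄) (n := 6) (h64.trans (by norm_num))
  obtain ⟨A, hA⟩ := exists_sl_two h64
  letI := ZMod.algebra F₈ 2
  letI := ZMod.algebra F₆₄ 2
  have hd8 : Module.finrank (ZMod 2) F₈ = 3 := finrank_two (h8.trans (by norm_num))
  have hd64 : Module.finrank (ZMod 2) F₆₄ = 6 := finrank_two (h64.trans (by norm_num))
  obtain ⟨ι⟩ : Nonempty (F₈ →ₐ[ZMod 2] F₆₄) := FiniteField.nonempty_algHom_of_finrank_dvd (by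
    rw [hd8, hd64]
    norm_num)
  letI := ι.toRingHom.toAlgebra
  haveI : FiniteDimensional F₈ F₆₄ := Module.Finite.of_finite
  have hfr : Module.finrank F₈ F₆₄ = 2 := by
    have h := Module.card_eq_pow_finrank (K := F₈) (V := F₆₄)
    rw [h64, h8] at h
    exact Nat.pow_right_injective (by norm_num) (h.symm.trans (by norm_num : (64 : ℕ) = 8 ^ 2))
  let b := Module.finBasisOfFinrankEq F₈ F₆₄ hfr
  obtain ⟨ψU, hψU⟩ := to_unitary ι.toRingHom (q := 8) h8 (by rw [h64]; norm_num)
  have hψ := toSp_injective b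
  exact ⟨order_quot hA (ψ := MonoidHom.id _) Function.injective_id, order_quot hA hψ,
    order_quot hA (ψ := toSL4.comp (toSp b)) (toSL4_injective.comp hψ),
    order_quot hA (ψ := ψU.comp (toSp b)) (hψU.comp hψ),
    order_quot hA (ψ := toSp3.comp (toSp b)) (toSp3_injective.comp hψ)⟩

end CfsgLib.E7SixtyFive
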