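import Cfsg.Agent.E7SixtyFive.Weyl
import Cfsg.Agent.E7SixtyFive.Cent
import Cfsg.Agent.S1062
import Cfsg.Agent.S1064
import Mathlib.FieldTheory.Finite.GaloisField

/-!
`E₇(2)` has no element of order sixty-five: over the field with `4096` elements a commuting pair of
elements of orders thirteen and five would lie in the torus, twisted by an element of the Weyl
group with an eigenvalue of order twelve modulo thirteen and one of order four modulo five.
-/

set_option autoImplicit false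
set_option maxRecDepth 4000
set_option maxHeartbeats 1000000
set_option linter.style.haveILetI false

namespace CfsgLib.E7SixtyFive

open Matrix Polynomial Cfsg.Lie CfsgLib.Chev CfsgLib.Chev.Tab CfsgLib.Chev.E7Fold
open CfsgLib.Chev.Tab.Good (expo expo_eq_iff nw_expo chi_expo)

/-- The rank is not zero. -/
local instance neZeroRankF4_65m : NeZero chevF4.rank := ⟨by decide⟩

/-- The rank is not zero. -/
local instance neZeroRankE7_65m : NeZero chevE7.rank := ⟨by decide⟩

theorem hT_inj7 {K : Type*} [Field K] [CharP K 2] :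
    Function.Injective (E7Data.tab.hT K) := by
  refine (injective_iff_map_eq_one _).mpr fun c hc => funext fun i => Units.ext ?_
  have h : ((c i : K)) ^ 2 = 1 := by
    have := congrFun (good_E7.ker_pow chkKer2E7 hc) i
    rw [Pi.pow_apply, Pi.one_apply] at this
    simpa using congrArg Units.val this
  exact sub_eq_zero.mp ((pow_eq_zero_iff two_ne_zero).mp (by
    simp only [Pi.one_apply, Units.val_one]
    linear_combination h + (1 - (c i : K)) * CharTwo.two_eq_zero (R := K)))

theorem two_order_thirteen : orderOf ((2 : ℕ) : ZMod 13) = 12 := by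
  rw [orderOf_eq_iff (by norm_num)]
  refine ⟨by decide, fun k hk hk0 => ?_⟩
  interval_cases k <;> decide

theorem card_mod_five : ((2 ^ 12 : ℕ) : ZMod 5) = 1 := by decide

theorem weyl_coprime {r : ℕ} (h : ¬ r ∣ 2903040) :
    ¬ r ∣ Nat.card (good_E7.full.WJ (List.range chevE7.rank)) := by
  rwa [weyl_E7]

/-- With cyclic Sylow subgroups of order thirteen, an element of order sixty-five gives every
element of order thirteen a companion of order five. -/
theorem exists_commute_five {G : Type*} [Group G] [Finite G]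
    (hcard : (Nat.card G).factorization 13 = 1) (z₀ x₀ : G) (hz₀ : orderOf z₀ = 65)
    (hx₀ : orderOf x₀ = 13) : ∃ y : G, orderOf y = 5 ∧ Commute y x₀ := by
  haveI : Fact (Nat.Prime 13) := ⟨by norm_num⟩
  have hx : orderOf (z₀ ^ 5) = 13 := by rw [orderOf_pow, hz₀]; norm_num
  have hsyl : ∀ y : G, orderOf y = 13 →
      ∃ P : Sylow 13 G, (P : Subgroup G) = Subgroup.zpowers y :=
    fun y hy => ⟨Sylow.ofCard (Subgroup.zpowers y) (by rw [Nat.card_zpowers, hy, hcard, pow_one]),
      rfl⟩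
  obtain ⟨P, hP⟩ := hsyl _ hx
  obtain ⟨Q, hQ⟩ := hsyl _ hx₀
  obtain ⟨a, ha⟩ := MulAction.exists_smul_eq G P Q
  set z := a * z₀ * a⁻¹ with hz
  have hz65 : orderOf z = 65 := by
    rw [hz, show a * z₀ * a⁻¹ = MulAut.conj a z₀ from rfl, MulEquiv.orderOf_eq, hz₀]
  have h1 : z ^ 5 ∈ Subgroup.zpowers x₀ := by
    rw [← hQ, ← ha, Sylow.coe_subgroup_smul, hP, Subgroup.mem_smul_pointwise_iff_exists]
    exact ⟨z₀ ^ 5, Subgroup.mem_zpowers _, by
      rw [MulAut.smul_def, MulAut.conj_apply, hz, conj_pow]⟩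
  have h2 : Subgroup.zpowers (z ^ 5) = Subgroup.zpowers x₀ := by
    refine Subgroup.eq_of_le_of_card_ge (Subgroup.zpowers_le.mpr h1) (le_of_eq ?_)
    rw [Nat.card_zpowers, Nat.card_zpowers, hx₀, orderOf_pow z, hz65]
    norm_num
  obtain ⟨j, hj⟩ := Subgroup.mem_zpowers_iff.mp
    (show x₀ ∈ Subgroup.zpowers (z ^ 5) by rw [h2]; exact Subgroup.mem_zpowers x₀)
  refine ⟨z ^ 13, by rw [orderOf_pow z, hz65]; norm_num, ?_⟩
  rw [← hj]
  exact (((Commute.refl z).pow_left 13).pow_right 5).zpow_right j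

section Ambient

variable {K : Type*} [Field K] [Fintype K] [CharP K 2] {g : Kˣ}

/-- Equal images in the torus mean congruent exponents. -/
theorem cast_eq_of_hT {r : ℕ} {m : ℤ} (hm : (orderOf g : ℤ) = r * m)
    {v w : Fin chevE7.rank → ℤ}
    (h : E7Data.tab.hT K (expo g (m • v)) = E7Data.tab.hT K (expo g (m • w))) :
    ∀ k, (v k : ZMod r) = (w k : ZMod r) := fun k => by
  have h1 := (expo_eq_iff _ _).mp (hT_inj7 h) k
  rw [Pi.smul_apply, Pi.smul_apply, smul_eq_mul, smul_eq_mul, ← mul_sub, hm, mul_comm (r : ℤ)] at h1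
  have hm0 : m ≠ 0 := fun e => by
    rw [e, mul_zero, Nat.cast_eq_zero] at hm
    exact (orderOf_pos g).ne' hm
  exact ((ZMod.intCast_eq_intCast_iff_dvd_sub _ _ _).mpr ((mul_dvd_mul_iff_left hm0).mp h1)).symm

omit [Fintype K] [CharP K 2] in
theorem expo_congr {r : ℕ} {m : ℤ} (hm : (orderOf g : ℤ) = r * m)
    {v w : Fin chevE7.rank → ℤ} (h : ∀ k, (v k : ZMod r) = (w k : ZMod r)) :
    expo g (m • v) = expo g (m • w) :=
  (expo_eq_iff _ _).mpr fun k => by
    rw [Pi.smul_apply, Pi.smul_apply, smul_eq_mul, smul_eq_mul, ← mul_sub, hm, mul_comm (r : ℤ)]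
    exact mul_dvd_mul_left m ((ZMod.intCast_eq_intCast_iff_dvd_sub _ _ _).mp (h k).symm)

omit [Fintype K] [CharP K 2] in
theorem glMap_sq {σ : K →+* K} (hσ : ∀ a, σ a = a ^ 2) (v : Fin chevE7.rank → ℤ) :
    glMap chevE7 σ (E7Data.tab.hT K (expo g v)) = E7Data.tab.hT K (expo g ((2 : ℤ) • v)) := by
  rw [good_E7.glMap_hT]
  refine congrArg (E7Data.tab.hT K) (funext fun k => Units.ext ?_)
  show σ ((g ^ v k : Kˣ) : K) = ((g ^ ((2 : ℤ) • v) k : Kˣ) : K)
  rw [hσ, ← Units.val_pow_eq_pow_val, Pi.smul_apply, smul_eq_mul, mul_comm (2 : ℤ),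
    _root_.zpow_mul, _root_.zpow_ofNat]

open scoped Classical in
/-- The Weyl elements fixing a torus element of a vector vanishing on exactly the three roots. -/
theorem stab_set {r : ℕ} [Fact r.Prime] (hrW : ¬ r ∣ 2903040) {m : ℤ}
    (hm : (orderOf g : ℤ) = r * m) {u : Fin chevE7.rank → ℤ}
    (hu0 : ∀ i, E7Data.tab.wrow (beta i).val ⬝ᵥ u = 0)
    (hu : ∀ s : Fin chevE7.nroots, (r : ℤ) ∣ E7Data.tab.wrow s.val ⬝ᵥ u →
      ∃ i, s = beta i ∨ s = negF (beta i))
    (σ : Equiv.Perm (Fin chevE7.nroots)) :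
    σ ∈ Finset.univ.image (fun e => good_E7.full.pw (flipW e)) ↔
      σ ∈ good_E7.full.WJ (List.range chevE7.rank) ∧ ∀ s : Fin chevE7.nroots,
        E7Data.tab.chi (F := K) (σ s).val (expo g (m • u)) =
          E7Data.tab.chi s.val (expo g (m • u)) := by
  have key : ∀ (L : List (Fin chevE7.rank)) (t : Fin chevE7.nroots),
      E7Data.tab.chi (F := K) (good_E7.full.pw L t).val (expo g (E7Data.tab.vM L *ᵥ (m • u))) =
        E7Data.tab.chi t.val (expo g (m • u)) := fun L t => by
    rw [chi_expo, chi_expo, dotProduct_mulVec, good_E7.wrow_pw]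
  simp only [Finset.mem_image, Finset.mem_univ, true_and]
  constructor
  · rintro ⟨e, rfl⟩
    refine ⟨good_E7.pw_mem_full _, fun s => ?_⟩
    conv_lhs => rw [show m • u = E7Data.tab.vM (flipW e) *ᵥ (m • u) by
      rw [mulVec_smul, flipW_fix hu0]]
    exact key _ s
  · rintro ⟨hσ, hchi⟩
    obtain ⟨L, -, rfl⟩ := good_E7.exists_word_WJ hσ
    have hT : E7Data.tab.hT K (expo g (m • (E7Data.tab.vM L *ᵥ u))) =
        E7Data.tab.hT K (expo g (m • u)) := by
      apply Units.ext
      rw [E7Data.tab.coe_hT, E7Data.tab.coe_hT]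
      refine congrArg Matrix.diagonal (funext fun b => ?_)
      rcases b with j | t
      · rfl
      · show (E7Data.tab.chi (F := K) t.val _ : K) = (E7Data.tab.chi (F := K) t.val _ : K)
        obtain ⟨s, rfl⟩ := (good_E7.full.pw L).surjective t
        rw [← mulVec_smul, key, hchi]
    obtain ⟨e, he⟩ := stab (weyl_coprime hrW) hu0 hu L (cast_eq_of_hT hm hT)
    exact ⟨e, he.symm⟩

end Ambient

/-- `E₇(2)` has no element of order sixty-five. -/
theorem not_order_sixty_five (z₀ : ↥(chevE7.group (ZMod 2))) : orderOf z₀ ≠ 65 := by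
  classical
  intro hz₀
  haveI : Fact (Nat.Prime 2) := ⟨Nat.prime_two⟩
  haveI : Fact (Nat.Prime 13) := ⟨by norm_num⟩
  haveI : Fact (Nat.Prime 5) := ⟨by norm_num⟩
  set F := ZMod 2
  let K := GaloisField 2 12
  letI : Fintype K := Fintype.ofFinite K
  have hqF : Fintype.card F = 2 := ZMod.card 2
  have hK : Fintype.card K = Fintype.card F ^ 12 := by
    rw [hqF, ← Nat.card_eq_fintype_card]
    exact GaloisField.card 2 12 (by norm_num)
  let f : F →+* K := algebraMap F K
  let σ : K →+* K := frobenius K 2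
  have hσ : ∀ a, σ a = a ^ 2 := fun a => frobenius_def 2 a
  have hσf : σ.comp f = f := RingHom.ext fun a => by
    rw [RingHom.comp_apply, hσ, ← map_pow]
    exact congrArg f (by simpa [hqF] using FiniteField.pow_card a)
  have hfix : ∀ t, σ t = t → ∃ e, f e = t := fun t ht => by
    rw [hσ] at ht
    rcases mul_eq_zero.mp (show t * (t - 1) = 0 by linear_combination ht) with h | h
    · exact ⟨0, by rw [map_zero, h]⟩
    · exact ⟨1, by rw [map_one, sub_eq_zero.mp h]⟩
  obtain ⟨g, hg⟩ := IsCyclic.exists_generator (α := Kˣ)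
  have hN : orderOf g = 4095 := by
    rw [orderOf_eq_card_of_forall_mem_zpowers hg, Nat.card_eq_fintype_card, Fintype.card_units, hK,
      hqF]
    norm_num
  have hζ : orderOf (Fintype.card F : ZMod 13) = 12 := by
    rw [hqF]; exact two_order_thirteen
  have hrG : 13 ∣ Nat.card (chevF4.group F) := by
    rw [Cfsg.Agent.S1062.result hqF]
    norm_num
  obtain ⟨m, u4, L4, h7, a7, hm, hcp, hno4, hev, hh7, hy7⟩ :=
    exists_e7_twist f (σ := σ) (fun a => by rw [hσ, hqF]) hσf hg hK hζ (le_refl 13) hrG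
  set u : Fin chevE7.rank → ℤ := iota7 *ᵥ u4 with hu_def
  have hu0 : ∀ i, E7Data.tab.wrow (beta i).val ⬝ᵥ u = 0 := fun i => by
    rw [hu_def, dotProduct_mulVec, (beta_iota i).1, zero_dotProduct]
  have hu : ∀ s : Fin chevE7.nroots, ((13 : ℕ) : ℤ) ∣ E7Data.tab.wrow s.val ⬝ᵥ u →
      ∃ i, s = beta i ∨ s = negF (beta i) := fun s h => by
    refine (restrict7 s).resolve_left ?_
    rintro ⟨s', hs'⟩
    rw [hu_def, dotProduct_mulVec, hs'] at h
    refine hno4 s' ?_
    rw [← (ZMod.intCast_zmod_eq_zero_iff_dvd _ _).mpr h]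
    exact (RingHom.map_dotProduct (Int.castRingHom (ZMod 13)) _ _).symm
  -- the twisting element fixes the vector
  set E := expand7 L4
  have hEu : ∀ k, ((E7Data.tab.vM E *ᵥ ((2 : ℤ) • u)) k : ZMod 13) = (u k : ZMod 13) := by
    set cr := Int.castRingHom (ZMod 13)
    have h1 : cr ∘ (F4Data.tab.vM L4 *ᵥ ((2 : ℤ) • u4)) = cr ∘ u4 := by
      have h2 := congrArg (fun v => (F4Data.tab.vM L4).map cr *ᵥ v) hev
      simp only [mulVec_mulVec] at h2
      rw [← Matrix.map_mul] at h2
      have h3 : F4Data.tab.vM L4 * F4Data.tab.vM L4.reverse = 1 := by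
        have := E6Fold.vM_reverse good_F4 F4Data.smith_ok (by decide +kernel) L4.reverse
        rwa [List.reverse_reverse] at this
      rw [h3, Matrix.map_one cr cr.map_zero cr.map_one, one_mulVec] at h2
      conv_rhs => rw [h2]
      funext k
      rw [Function.comp_apply, RingHom.map_mulVec]
      refine congrArg (fun x => ((F4Data.tab.vM L4).map cr *ᵥ x) k) (funext fun j => ?_)
      simp [cr, hqF]
    intro k
    rw [hu_def, ← mulVec_smul, mulVec_mulVec, (vM_expand7 L4).1, ← mulVec_mulVec]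
    show cr ((iota7 *ᵥ (F4Data.tab.vM L4 *ᵥ ((2 : ℤ) • u4))) k) = cr ((iota7 *ᵥ u4) k)
    rw [RingHom.map_mulVec, RingHom.map_mulVec, h1]
  set n7 : GL chevE7.Idx K := E7Data.tab.hT K a7 * good_E7.full.nw K E with hn7
  have htor : ∀ a b : Fin chevE7.rank → Kˣ,
      E7Data.tab.hT K a * E7Data.tab.hT K b = E7Data.tab.hT K b * E7Data.tab.hT K a := fun a b => by
    rw [← map_mul, ← map_mul, mul_comm]
  set t₀ := E7Data.tab.hT K (expo g (m • u)) with ht₀
  have ht₀G : t₀ ∈ chevE7.group K := good_E7.diagonal_le_group (by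
    rw [good_E7.full.diagonal_eq_range]; exact ⟨_, rfl⟩)
  have hn7t : n7 * glMap chevE7 σ t₀ = t₀ * n7 := by
    rw [ht₀, glMap_sq hσ, hn7, mul_assoc, good_E7.nw_expo, ← mul_assoc,
      show E7Data.tab.vM E *ᵥ ((2 : ℤ) • m • u) = m • (E7Data.tab.vM E *ᵥ ((2 : ℤ) • u)) by
        rw [smul_comm, mulVec_smul],
      expo_congr hm hEu, htor, mul_assoc]
  -- the element of order thirteen
  have hh7σ : glMap chevE7 σ h7 = h7 * n7 := by rw [← hy7]; group
  have hσx : glMap chevE7 σ (h7 * t₀ * h7⁻¹) = h7 * t₀ * h7⁻¹ := by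
    rw [map_mul, map_mul, map_inv, hh7σ]
    calc h7 * n7 * glMap chevE7 σ t₀ * (h7 * n7)⁻¹
        = h7 * (n7 * glMap chevE7 σ t₀) * n7⁻¹ * h7⁻¹ := by group
      _ = _ := by rw [hn7t]; group
  obtain ⟨x₀', hx₀G, hx₀⟩ := good_E7.exists_glMap_of_fixed f hT_inj7 σ
    (fun e => RingHom.congr_fun hσf e) hfix (mul_mem (mul_mem hh7 ht₀G) (inv_mem hh7)) hσx
  let x₀ : ↥(chevE7.group F) := ⟨x₀', hx₀G⟩
  let φ : ↥(chevE7.group F) →* GL chevE7.Idx K := (glMap chevE7 f).comp (chevE7.group F).subtype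
  have hφinj : Function.Injective φ :=
    (glMap_injective f).comp (Subgroup.subtype_injective _)
  have hm' : (orderOf g : ℤ) = ((13 : ℕ) : ℤ) * m := hm
  have ht₀13 : t₀ ^ 13 = 1 := by
    rw [ht₀, ← map_pow, show expo g (m • u) ^ 13 = 1 from funext fun k => by
      rw [Pi.pow_apply, Pi.one_apply, expo, ← _root_.zpow_natCast, ← _root_.zpow_mul,
        ← orderOf_dvd_iff_zpow_eq_one, hm', Pi.smul_apply, smul_eq_mul]
      exact ⟨u k, by push_cast; ring⟩, map_one]
  have ht₀1 : t₀ ≠ 1 := by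
    intro e
    have h1 : ∀ k, (u k : ZMod 13) = ((0 : Fin chevE7.rank → ℤ) k : ZMod 13) := cast_eq_of_hT hm (by
      rw [← ht₀, e, smul_zero, show expo g (0 : Fin chevE7.rank → ℤ) = 1 from
        funext fun j => _root_.zpow_zero g, map_one])
    have h2 : ∀ s : Fin chevE7.nroots, ∃ i, s = beta i ∨ s = negF (beta i) := fun s => by
      refine hu s ((ZMod.intCast_zmod_eq_zero_iff_dvd _ _).mp ?_)
      simp only [dotProduct, Int.cast_sum, Int.cast_mul, h1]
      simp
    have h3 : Fintype.card (Fin chevE7.nroots) ≤ 6 := by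
      calc Fintype.card (Fin chevE7.nroots)
          ≤ Fintype.card (Fin 3 × Bool) := Fintype.card_le_of_surjective
            (fun p => cond p.2 (negF (beta p.1)) (beta p.1)) fun s => by
              obtain ⟨i, hi | hi⟩ := h2 s
              · exact ⟨(i, false), hi.symm⟩
              · exact ⟨(i, true), hi.symm⟩
        _ = 6 := rfl
    rw [Fintype.card_fin, show chevE7.nroots = 126 from rfl] at h3
    omega
  have hφx₀ : φ x₀ = h7 * t₀ * h7⁻¹ := hx₀
  have hx₀13 : orderOf x₀ = 13 := by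
    rw [← orderOf_injective φ hφinj, hφx₀, show h7 * t₀ * h7⁻¹ = MulAut.conj h7 t₀ from rfl,
      MulEquiv.orderOf_eq]
    exact orderOf_eq_prime ht₀13 ht₀1
  -- conjugate the element of order 65 to commute with it
  haveI : Finite ↥(chevE7.group F) := inferInstance
  have hcard : (Nat.card ↥(chevE7.group F)).factorization 13 = 1 := by
    have h := Cfsg.Agent.S1064.result hqF
    rw [show Nat.gcd 2 (2 - 1) = 1 from rfl, one_mul] at h
    have hpos : Nat.card ↥(chevE7.group F) ≠ 0 := Nat.card_pos.ne'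
    refine le_antisymm ?_ ?_
    · by_contra hlt
      have h2 : 13 ^ 2 ∣ Nat.card ↥(chevE7.group F) :=
        ((by norm_num : Nat.Prime 13).pow_dvd_iff_le_factorization hpos).mpr (by omega)
      rw [h] at h2
      norm_num at h2
    · refine ((by norm_num : Nat.Prime 13).dvd_iff_one_le_factorization hpos).mp ?_
      rw [h]
      norm_num
  obtain ⟨y, hy5, hcomm⟩ := exists_commute_five hcard z₀ x₀ hz₀ hx₀13
  set y' := h7⁻¹ * φ y * h7 with hy'
  have hφG : ∀ w, φ w ∈ chevE7.group K := fun w => good_E7.glMap_group f w.2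
  have hy'C : y' ∈ chevE7.group K ⊓ Subgroup.centralizer {t₀} := by
    refine Subgroup.mem_inf.mpr ⟨mul_mem (mul_mem (inv_mem hh7) (hφG y)) hh7, ?_⟩
    rw [Subgroup.mem_centralizer_iff]
    intro t ht
    rw [Set.mem_singleton_iff.mp ht]
    have e : t₀ = h7⁻¹ * φ x₀ * h7 := by rw [hφx₀]; group
    rw [e, hy']
    calc h7⁻¹ * φ x₀ * h7 * (h7⁻¹ * φ y * h7) = h7⁻¹ * φ (x₀ * y) * h7 := by rw [map_mul]; group
      _ = _ := by rw [← hcomm.eq, map_mul]; group
  have hy'5 : orderOf y' = 5 := by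
    rw [hy', show h7⁻¹ * φ y * h7 = MulAut.conj h7⁻¹ (φ y) by rw [MulAut.conj_apply, inv_inv],
      MulEquiv.orderOf_eq, orderOf_injective φ hφinj, hy5]
  -- into the torus
  obtain ⟨c, hc, d, hd⟩ := conj_torus_cent good_E7 hT_inj7
    (r := 5) (by rw [hK, hqF]; exact card_mod_five) (expo g (m • u))
    (Finset.univ.image fun e => good_E7.full.pw (flipW e))
    (stab_set (by norm_num) hm hu0 hu)
    (by
      rw [Finset.card_image_of_injective _ pw_flipW_injective]
      decide)
    hy'C hy'5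
  obtain ⟨hcG, hcC⟩ := Subgroup.mem_inf.mp hc
  obtain ⟨v, rfl⟩ : ∃ v, expo g v = d := by
    choose v hv using fun k => Subgroup.mem_zpowers_iff.mp (hg (d k))
    exact ⟨v, funext hv⟩
  have hv5 : ∀ k, (819 : ℤ) ∣ v k := fun k => by
    have h1 : (E7Data.tab.hT K (expo g v)) ^ 5 = 1 := by
      have : E7Data.tab.hT K (expo g v) = c⁻¹ * y' * c := by rw [hd]; group
      rw [this, show c⁻¹ * y' * c = MulAut.conj c⁻¹ y' by rw [MulAut.conj_apply, inv_inv],
        ← map_pow, ← hy'5, pow_orderOf_eq_one, map_one]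
    rw [← map_pow] at h1
    have h2 := congrFun (hT_inj7 (h1.trans (map_one _).symm)) k
    rw [Pi.pow_apply, Pi.one_apply, expo, ← _root_.zpow_natCast, ← _root_.zpow_mul,
      ← orderOf_dvd_iff_zpow_eq_one, hN] at h2
    have : (5 : ℤ) * 819 ∣ 5 * v k := by
      rw [mul_comm (v k)] at h2; simpa using h2
    exact (mul_dvd_mul_iff_left (by norm_num)).mp this
  choose b hb using hv5
  have hvb : v = (819 : ℤ) • b := funext fun k => by rw [hb k]; rfl
  have hm5 : (orderOf g : ℤ) = ((5 : ℕ) : ℤ) * 819 := by rw [hN]; norm_num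
  set s := E7Data.tab.hT K (expo g v) with hs
  -- the new twisting element
  set w := c⁻¹ * n7 * glMap chevE7 σ c with hw
  have hn7G : n7 ∈ chevE7.group K := hy7 ▸ mul_mem (inv_mem hh7) (good_E7.glMap_group σ hh7)
  have hwG : w ∈ chevE7.group K :=
    mul_mem (mul_mem (inv_mem hcG) hn7G) (good_E7.glMap_group σ hcG)
  have hct : c * t₀ = t₀ * c := (Subgroup.mem_centralizer_iff.mp hcC t₀ rfl).symm
  have hwt : w * glMap chevE7 σ t₀ = t₀ * w := by
    rw [hw, mul_assoc, ← map_mul, hct, map_mul, mul_assoc, ← mul_assoc n7, hn7t,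
      show c⁻¹ * (t₀ * n7 * glMap chevE7 σ c) = (c⁻¹ * t₀) * n7 * glMap chevE7 σ c by group,
      show c⁻¹ * t₀ = t₀ * c⁻¹ by rw [eq_mul_inv_iff_mul_eq, mul_assoc, ← hct]; group]
    group
  have hσy' : n7 * glMap chevE7 σ y' = y' * n7 := by
    rw [hy', map_mul, map_mul, map_inv, hh7σ,
      show glMap chevE7 σ (φ y) = φ y from by
        show glMap chevE7 σ (glMap chevE7 f _) = glMap chevE7 f _
        rw [glMap_comp, hσf]]
    group
  have hws : w * glMap chevE7 σ s = s * w := by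
    have hs' : s = c⁻¹ * y' * c := by rw [hd]; group
    rw [hw, hs', map_mul, map_mul, map_inv]
    calc c⁻¹ * n7 * glMap chevE7 σ c * ((glMap chevE7 σ c)⁻¹ * glMap chevE7 σ y' * glMap chevE7 σ c)
        = c⁻¹ * (n7 * glMap chevE7 σ y') * glMap chevE7 σ c := by group
      _ = _ := by rw [hσy']; group
  obtain ⟨L, hL⟩ := good_E7.fusion_word hwG
  have hfus : ∀ {r : ℕ} {m' : ℤ}, (orderOf g : ℤ) = r * m' → ∀ x : Fin chevE7.rank → ℤ,
      w * glMap chevE7 σ (E7Data.tab.hT K (expo g (m' • x))) =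
        E7Data.tab.hT K (expo g (m' • x)) * w →
      ∀ k, ((E7Data.tab.vM L *ᵥ ((2 : ℤ) • x)) k : ZMod r) = (x k : ZMod r) := by
    intro r m' hm' x hx
    rw [glMap_sq hσ] at hx
    have h1 := hL _ _ hx
    rw [good_E7.nw_expo, smul_comm, mulVec_smul] at h1
    exact cast_eq_of_hT hm' (mul_right_cancel h1)
  have h13 := hfus hm u hwt
  have h5 := hfus hm5 b (by rw [← hvb]; exact hws)
  -- the stabiliser
  have hR : ∀ k, ((E7Data.tab.vM (L ++ E.reverse) *ᵥ u) k : ZMod 13) = (u k : ZMod 13) := by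
    intro k
    set cr := Int.castRingHom (ZMod 13)
    have e1 : cr ∘ (E7Data.tab.vM E.reverse *ᵥ u) = cr ∘ ((2 : ℤ) • u) := by
      funext j
      have h1 : cr ∘ (E7Data.tab.vM E.reverse *ᵥ (E7Data.tab.vM E *ᵥ ((2 : ℤ) • u))) =
          cr ∘ (E7Data.tab.vM E.reverse *ᵥ u) := by
        funext i
        rw [Function.comp_apply, Function.comp_apply, RingHom.map_mulVec, RingHom.map_mulVec]
        exact congrArg (fun x => ((E7Data.tab.vM E.reverse).map cr *ᵥ x) i) (funext hEu)
      rw [mulVec_mulVec, E6Fold.vM_reverse good_E7 E7Data.smith_ok smith_pos7, one_mulVec] at h1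
      rw [← h1]
    rw [Tab.vM_append, ← mulVec_mulVec, ← h13 k]
    show cr _ = cr _
    rw [RingHom.map_mulVec, RingHom.map_mulVec, e1]
  obtain ⟨e, he⟩ := stab (weyl_coprime (by norm_num)) hu0 hu _ hR
  have hLM : E7Data.tab.vM L = E7Data.tab.vM (flipW e) * E7Data.tab.vM E := by
    rw [← good_E7.vM_congr_smith E7Data.smith_ok smith_pos7 he, Tab.vM_append, Matrix.mul_assoc,
      E6Fold.vM_reverse good_E7 E7Data.smith_ok smith_pos7, Matrix.mul_one]
  rw [hLM] at h5
  have hb0 := no_five hcp e h5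
  have hs1 : s = 1 := by
    rw [hs, hvb, expo_congr hm5 (w := 0) (fun k => by rw [hb0 k]; simp), smul_zero,
      show expo g (0 : Fin chevE7.rank → ℤ) = 1 from funext fun j => _root_.zpow_zero g, map_one]
  have : y' = 1 := by rw [hd, hs1]; group
  rw [this, orderOf_one] at hy'5
  norm_num at hy'5

/-- A subgroup of `E₇(2)` is isomorphic to no group with an element of order sixty-five. -/
theorem no_sub (H : Subgroup ↥(chevE7.group (ZMod 2))) {P : Type*} [Group P] (e : ↥H ≃* P) (x : P)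
    (hx : orderOf x = 65) : False :=
  not_order_sixty_five ((e.symm x : ↥H) : ↥(chevE7.group (ZMod 2)))
    (by rw [Subgroup.orderOf_coe, MulEquiv.orderOf_eq, hx])

end CfsgLib.E7SixtyFive
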