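import Cfsg.Agent.Chev.EllipticE7

/-!
The stabiliser in the Weyl group of `E₇` of a vector vanishing modulo `r` on exactly three
orthogonal roots, and the absence of an eigenvalue of order four modulo five.
-/

set_option autoImplicit false
set_option linter.style.haveILetI false

namespace CfsgLib.E7SixtyFive

open Matrix Polynomial Cfsg.Lie CfsgLib.Chev CfsgLib.Chev.Tab CfsgLib.Chev.E7Fold

/-- The rank is not zero. -/
local instance neZeroRankF4_65 : NeZero chevF4.rank := ⟨by decide⟩

/-- The rank is not zero. -/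
local instance neZeroRankE7_65 : NeZero chevE7.rank := ⟨by decide⟩

/-- The reflection in the second of the three roots. -/
def sw1 : List (Fin chevE7.rank) := orb7 0 ++ sw7 ++ orb7 0

/-- The reflection in the third of the three roots. -/
def sw2 : List (Fin chevE7.rank) := orb7 1 ++ sw1 ++ orb7 1

/-- The reflections in a set of the three roots. -/
def flipW (e : Fin 3 → Bool) : List (Fin chevE7.rank) :=
  ((cond (e 0) sw7 []) ++ (cond (e 1) sw1 []) ++ (cond (e 2) sw2 [])).reverse

/-- The signs of a set of the three roots. -/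
def signs (e : Fin 3 → Bool) : Fin 3 → ℤ := fun i => cond (e i) (-1) 1

theorem flipW_iota : ∀ e, E7Data.tab.vM (flipW e) * iota7 = iota7 := by decide +kernel

theorem flipW_cor : ∀ e, E7Data.tab.vM (flipW e) * corM = corM * Matrix.diagonal (signs e) := by
  decide +kernel

theorem flipW_beta : ∀ (e : Fin 3 → Bool) (i : Fin 3),
    E7Data.tab.wordT ((flipW e).reverse.map Fin.val) (beta i).val =
        (cond (e i) (negF (beta i)) (beta i)).val ∧
      E7Data.tab.wordT ((flipW e).map Fin.val) (beta i).val =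
        (cond (e i) (negF (beta i)) (beta i)).val := by
  decide +kernel

theorem beta_ne : ∀ i : Fin 3, beta i ≠ negF (beta i) := by decide +kernel

theorem negF_negF' : ∀ i : Fin 3, negF (negF (beta i)) = beta i := by decide +kernel

theorem beta_inj : ∀ i k : Fin 3, (beta i = beta k → i = k) ∧ beta i ≠ negF (beta k) := by
  decide +kernel

theorem pw_flipW (e : Fin 3 → Bool) (i : Fin 3) :
    good_E7.full.pw (flipW e).reverse (beta i) = cond (e i) (negF (beta i)) (beta i) ∧
      good_E7.full.pw (flipW e) (beta i) = cond (e i) (negF (beta i)) (beta i) :=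
  ⟨Fin.ext ((good_E7.pw_apply _ _).trans (flipW_beta e i).1),
    Fin.ext ((good_E7.pw_apply _ _).trans (flipW_beta e i).2)⟩

theorem pw_flipW_injective : Function.Injective fun e => good_E7.full.pw (flipW e) := by
  intro e e' h
  funext i
  have h1 := DFunLike.congr_fun h (beta i)
  simp only [(pw_flipW e i).2, (pw_flipW e' i).2] at h1
  cases hi : e i <;> cases hi' : e' i <;> rw [hi, hi'] at h1 <;>
    simp only [cond_true, cond_false] at h1 <;>
    first | rfl | exact absurd h1 (beta_ne i) | exact absurd h1.symm (beta_ne i)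

theorem fromCols_basisInv7 : Matrix.fromCols iota7 corM * basisInv7 =
    (4 : ℤ) • (1 : Matrix (Fin chevE7.rank) (Fin chevE7.rank) ℤ) := by
  decide +kernel

/-- A vector vanishing on the three roots is fixed by their reflections. -/
theorem flipW_fix {u : Fin chevE7.rank → ℤ} (hu0 : ∀ i, E7Data.tab.wrow (beta i).val ⬝ᵥ u = 0)
    (e : Fin 3 → Bool) : E7Data.tab.vM (flipW e) *ᵥ u = u := by
  set x : Fin chevF4.rank → ℤ := fun i => (basisInv7 *ᵥ u) (Sum.inl i) with hx
  set y : Fin 3 → ℤ := fun i => (basisInv7 *ᵥ u) (Sum.inr i) with hy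
  have hsplit : (4 : ℤ) • u = iota7 *ᵥ x + corM *ᵥ y := by
    rw [← Matrix.fromCols_mulVec_sumElim,
      show Sum.elim x y = basisInv7 *ᵥ u from funext fun z => by rcases z with z | z <;> rfl,
      mulVec_mulVec, fromCols_basisInv7, smul_mulVec, one_mulVec]
  have hy0 : y = 0 := by
    funext i
    have h := congrArg (fun v => E7Data.tab.wrow (beta i).val ⬝ᵥ v) hsplit
    simp only [dotProduct_smul, hu0, smul_zero, dotProduct_add, dotProduct_mulVec,
      (beta_iota i).1, zero_dotProduct, zero_add, (beta_cor i).1, single_dotProduct] at h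
    simpa using h.symm
  rw [hy0, mulVec_zero, add_zero] at hsplit
  refine smul_right_injective _ (four_ne_zero (α := ℤ)) ?_
  show (4 : ℤ) • _ = (4 : ℤ) • u
  rw [← mulVec_smul, hsplit, mulVec_mulVec, flipW_iota]

theorem wrow_dot_cast {r : ℕ} (v w : Fin chevE7.rank → ℤ) (M : Matrix (Fin chevE7.rank) (Fin chevE7.rank) ℤ)
    (h : ∀ k, ((M *ᵥ v) k : ZMod r) = (w k : ZMod r)) (x : Fin chevE7.rank → ℤ) :
    (r : ℤ) ∣ (x ᵥ* M) ⬝ᵥ v - x ⬝ᵥ w := by
  rw [← dotProduct_mulVec, ← ZMod.intCast_zmod_eq_zero_iff_dvd, Int.cast_sub, sub_eq_zero]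
  simp only [dotProduct, Int.cast_sum, Int.cast_mul, h]

/-- The stabiliser of a vector vanishing on exactly the three roots. -/
theorem stab {r : ℕ} [Fact r.Prime]
    (hrW : ¬ r ∣ Nat.card (good_E7.full.WJ (List.range chevE7.rank)))
    {u : Fin chevE7.rank → ℤ} (hu0 : ∀ i, E7Data.tab.wrow (beta i).val ⬝ᵥ u = 0)
    (hu : ∀ s : Fin chevE7.nroots, (r : ℤ) ∣ E7Data.tab.wrow s.val ⬝ᵥ u →
      ∃ i, s = beta i ∨ s = negF (beta i))
    (L : List (Fin chevE7.rank))
    (hL : ∀ k, ((E7Data.tab.vM L *ᵥ u) k : ZMod r) = (u k : ZMod r)) :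
    ∃ e, good_E7.full.pw L = good_E7.full.pw (flipW e) := by
  classical
  have hr : r.Prime := Fact.out
  -- the three roots are permuted up to sign
  have hperm : ∀ i, ∃ k, good_E7.full.pw L (beta i) = beta k ∨
      good_E7.full.pw L (beta i) = negF (beta k) := fun i => by
    refine hu _ ?_
    have h := wrow_dot_cast u u _ hL (E7Data.tab.wrow (good_E7.full.pw L (beta i)).val)
    rw [good_E7.wrow_pw, hu0, zero_sub, dvd_neg] at h
    exact h
  choose τ hτ using hperm
  have hinj : Function.Injective τ := by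
    intro i k hik
    have hk := hτ k
    rw [← hik] at hk
    rcases hτ i with a | a <;> rcases hk with b | b
    · exact (beta_inj i k).1 ((good_E7.full.pw L).injective (a.trans b.symm))
    · refine absurd ((good_E7.full.pw L).injective ?_ : beta i = negF (beta k)) (beta_inj i k).2
      rw [good_E7.negF_pw, b, negF_negF', a]
    · refine absurd ((good_E7.full.pw L).injective ?_ : beta k = negF (beta i)) (beta_inj k i).2
      rw [good_E7.negF_pw, a, negF_negF', b]
    · exact (beta_inj i k).1 ((good_E7.full.pw L).injective (a.trans b.symm))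
  obtain ⟨σ, hσ⟩ : ∃ σ : Fin 3 ≃ Fin 3, ∀ i, σ i = τ i :=
    ⟨Equiv.ofBijective τ (Finite.injective_iff_bijective.mp hinj), fun i => rfl⟩
  let e : Fin 3 → Bool := fun k => decide (good_E7.full.pw L (beta (σ.symm k)) = negF (beta k))
  refine ⟨e, ?_⟩
  set R := (flipW e).reverse ++ L with hR
  -- the composite keeps the signs
  have hRb : ∀ i, good_E7.full.pw R (beta i) = beta (σ i) := by
    intro i
    rw [hR, good_E7.pw_append, Equiv.Perm.mul_apply, hσ]
    have hsym : σ.symm (τ i) = i := by rw [← hσ, Equiv.symm_apply_apply]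
    rcases hτ i with a | a <;> rw [a]
    · rw [(pw_flipW e (τ i)).1, show e (τ i) = false from by
        simp only [e, hsym, a, decide_eq_false_iff_not]; exact beta_ne _]
      rfl
    · rw [good_E7.negF_pw, (pw_flipW e (τ i)).1, show e (τ i) = true from by
        simp only [e, hsym, a, decide_eq_true_eq]]
      exact negF_negF' _
  set W := E7Data.tab.vM R with hW
  set k₀ := Nat.card (good_E7.full.WJ (List.range chevE7.rank)) with hk₀
  set S' := ∑ i ∈ Finset.range k₀, W ^ i with hS'
  have hXS : W * S' = S' := by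
    have := mul_geom_sum W k₀
    rw [hW, good_E7.vM_pow_card_smith E7Data.smith_ok smith_pos7 R, sub_self, sub_mul, one_mul,
      sub_eq_zero] at this
    exact this
  have hflip : E7Data.tab.vM (flipW e).reverse *ᵥ u = u := by
    conv_lhs => rw [← flipW_fix hu0 e]
    rw [mulVec_mulVec, E6Fold.vM_reverse good_E7 E7Data.smith_ok smith_pos7, one_mulVec]
  have hWu : ∀ k, ((W *ᵥ u) k : ZMod r) = (u k : ZMod r) := by
    intro k
    rw [hW, hR, Tab.vM_append, ← mulVec_mulVec]
    have e1 : ∀ (M : Matrix (Fin chevE7.rank) (Fin chevE7.rank) ℤ) (a b : Fin chevE7.rank → ℤ),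
        (∀ j, (a j : ZMod r) = (b j : ZMod r)) → ((M *ᵥ a) k : ZMod r) = ((M *ᵥ b) k : ZMod r) :=
      fun M a b h => by simp only [mulVec, dotProduct, Int.cast_sum, Int.cast_mul, h]
    rw [e1 _ _ u hL, hflip]
  have hrows : ∀ (j : ℕ) (i : Fin 3),
      ∃ i', E7Data.tab.wrow (beta i).val ᵥ* W ^ j = E7Data.tab.wrow (beta i').val := by
    intro j
    induction j with
    | zero => intro i; exact ⟨i, by simp⟩
    | succ j ih =>
      intro i
      obtain ⟨i', hi'⟩ := ih i
      refine ⟨σ.symm i', ?_⟩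
      rw [pow_succ, ← vecMul_vecMul, hi']
      have := good_E7.wrow_pw R (beta (σ.symm i'))
      rwa [hRb, Equiv.apply_symm_apply, ← hW] at this
  set z : Fin chevE7.rank → ℤ := u + (r : ℤ) • (corM *ᵥ fun _ => (1 : ℤ)) with hz
  have hbz : ∀ i, E7Data.tab.wrow (beta i).val ⬝ᵥ (S' *ᵥ z) = k₀ * (2 * r) := by
    intro i
    have hp : ∀ j : ℕ, (E7Data.tab.wrow (beta i).val ᵥ* W ^ j) ⬝ᵥ z = 2 * r := by
      intro j
      obtain ⟨i', hi'⟩ := hrows j i
      rw [hi', hz, dotProduct_add, hu0, dotProduct_smul, dotProduct_mulVec, (beta_cor i').1]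
      simp only [single_dotProduct, smul_eq_mul]
      ring
    rw [dotProduct_mulVec, hS', Matrix.vecMul_sum, sum_dotProduct]
    simp [hp]
  set cr := Int.castRingHom (ZMod r)
  have hcast : cr ∘ (S' *ᵥ z) = (k₀ : ZMod r) • (cr ∘ u) := by
    have hzc : cr ∘ z = cr ∘ u := funext fun j => by simp [hz, cr]
    have hWv : W.map cr *ᵥ (cr ∘ u) = cr ∘ u :=
      (funext fun j => (RingHom.map_mulVec cr W u j).symm).trans (funext hWu)
    have hp : ∀ n : ℕ, (W.map cr) ^ n *ᵥ (cr ∘ u) = cr ∘ u := fun n => by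
      induction n with
      | zero => simp
      | succ n ih => rw [pow_succ, ← mulVec_mulVec, hWv, ih]
    funext j
    rw [Function.comp_apply, RingHom.map_mulVec, hzc]
    have hSm : S'.map cr = ∑ n ∈ Finset.range k₀, (W.map cr) ^ n := by
      show cr.mapMatrix S' = _
      simp only [hS', map_sum, map_pow]
      rfl
    rw [hSm, Matrix.sum_mulVec]
    simp [hp]
  have hR1 : good_E7.full.pw R = 1 := by
    refine good_E7.pw_eq_one_of_fixed R (S' *ᵥ z) (fun s h0 => ?_) (by rw [← hW, mulVec_mulVec, hXS])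
    have hk0 : (k₀ : ℤ) * (2 * r) ≠ 0 := by
      have h1 : k₀ ≠ 0 := fun h => hrW (h ▸ dvd_zero r)
      have h2 := hr.ne_zero
      simp [h1, h2]
    have h1 := congrArg cr h0
    rw [RingHom.map_dotProduct, hcast, map_zero, dotProduct_smul, smul_eq_mul] at h1
    have h2 := (mul_eq_zero.mp h1).resolve_left fun h =>
      hrW ((CharP.cast_eq_zero_iff (ZMod r) r _).mp h)
    rw [← RingHom.map_dotProduct] at h2
    obtain ⟨i, rfl | rfl⟩ := hu s ((ZMod.intCast_zmod_eq_zero_iff_dvd _ _).mp h2)
    · exact hk0 ((hbz i).symm.trans h0)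
    · rw [wrow_negF, neg_dotProduct, neg_eq_zero] at h0
      exact hk0 ((hbz i).symm.trans h0)
  rw [hR, good_E7.pw_append, good_E7.pw_reverse_inv, inv_mul_eq_one] at hR1
  exact hR1.symm

theorem basisInv7_fromCols : basisInv7 * Matrix.fromCols iota7 corM =
    (4 : ℤ) • (1 : Matrix (Fin chevF4.rank ⊕ Fin 3) (Fin chevF4.rank ⊕ Fin 3) ℤ) := by
  rw [basis_inv7, Matrix.smul_one_eq_diagonal]

/-- A signed cyclic permutation of three points has no eigenvalue of order four modulo five. -/
theorem cycle_no_four : ∀ π : Fin 3 → Fin 3, π = ![1, 2, 0] ∨ π = ![2, 0, 1] →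
    ∀ (e : Fin 3 → Bool) (y : Fin 3 → ZMod 5),
      (∀ i, 2 * (((signs e i : ℤ) : ZMod 5) * ∑ k, if i = π k then y k else 0) = y i) → y = 0 := by
  decide +kernel

theorem four_ne_zero_five : ¬ (Int.castRingHom (ZMod 5)) 4 = 0 := by decide

/-- No element of the coset of the stabiliser has an eigenvalue of order four modulo five. -/
theorem no_five {L4 : List (Fin chevF4.rank)}
    (hL4 : (F4Data.tab.vM L4.reverse).charpoly = cyclotomic 12 ℤ) (e : Fin 3 → Bool)
    {b : Fin chevE7.rank → ℤ}
    (hb : ∀ k, (((E7Data.tab.vM (flipW e) * E7Data.tab.vM (expand7 L4)) *ᵥ ((2 : ℤ) • b)) k :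
      ZMod 5) = (b k : ZMod 5)) : ∀ k, (b k : ZMod 5) = 0 := by
  classical
  haveI : Fact (Nat.Prime 5) := ⟨by norm_num⟩
  have h12 : (cyclotomic 12 ℤ).eval 1 = 1 := by rw [E6Fold.cyclotomic_twelve]; simp
  set cf := Int.castRingHom (ZMod 5)
  set M := E7Data.tab.vM (flipW e) * E7Data.tab.vM (expand7 L4) with hM
  set A := F4Data.tab.vM L4
  set B := Matrix.diagonal (signs e) * permM (piOf L4) with hB
  set P := Matrix.fromCols iota7 corM
  set Q := basisInv7
  set X := Matrix.fromBlocks A 0 0 B with hX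
  have hMP : M * P = P * X := by
    obtain ⟨hi, hc⟩ := vM_expand7 L4
    rw [hM, Matrix.mul_fromCols, Matrix.mul_assoc, hi, ← Matrix.mul_assoc, flipW_iota,
      Matrix.mul_assoc, hc, ← Matrix.mul_assoc, flipW_cor, Matrix.mul_assoc, ← hB, hX,
      Matrix.fromCols_mul_fromBlocks]
    simp [A]
  have hQM : Q * M = X * Q := by
    refine smul_right_injective _ (four_ne_zero (α := ℤ)) ?_
    show (4 : ℤ) • (Q * M) = (4 : ℤ) • (X * Q)
    calc (4 : ℤ) • (Q * M) = Q * M * (P * Q) := by
          rw [fromCols_basisInv7, Matrix.mul_smul, Matrix.mul_one]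
      _ = Q * P * (X * Q) := by
        rw [Matrix.mul_assoc Q M, ← Matrix.mul_assoc M, hMP]; simp only [Matrix.mul_assoc]
      _ = (4 : ℤ) • (X * Q) := by rw [basisInv7_fromCols, Matrix.smul_mul, Matrix.one_mul]
  set w : Fin chevF4.rank ⊕ Fin 3 → ZMod 5 := cf ∘ (Q *ᵥ b) with hw
  have hwx : (2 : ZMod 5) • (X.map cf *ᵥ w) = w := by
    funext z
    have e1 : cf ((Q *ᵥ (M *ᵥ ((2 : ℤ) • b))) z) = w z := by
      rw [hw, Function.comp_apply, RingHom.map_mulVec, RingHom.map_mulVec]
      exact congrArg (fun v => (Q.map cf *ᵥ v) z) (funext hb)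
    rw [← e1, mulVec_mulVec, hQM, ← mulVec_mulVec, mulVec_smul, mulVec_smul, Pi.smul_apply,
      Pi.smul_apply, smul_eq_mul, smul_eq_mul, map_mul, hw, ← RingHom.map_mulVec]
    simp [cf]
  have hX' : X.map cf = Matrix.fromBlocks (A.map cf) 0 0 (B.map cf) := by
    rw [hX, Matrix.fromBlocks_map]
    simp [Matrix.map_zero]
  rw [hX', Matrix.fromBlocks_mulVec] at hwx
  have hx : w ∘ Sum.inl = 0 := by
    have h1 : (2 : ZMod 5) • (A.map cf *ᵥ (w ∘ Sum.inl)) = w ∘ Sum.inl := funext fun i => by
      simpa using congrFun hwx (Sum.inl i)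
    set U := F4Data.tab.vM L4.reverse with hU
    have hUA : U.map cf * A.map cf = 1 := by
      rw [← Matrix.map_mul, E6Fold.vM_reverse good_F4 F4Data.smith_ok (by decide +kernel),
        Matrix.map_one cf cf.map_zero cf.map_one]
    have h2 : (Matrix.scalar (Fin chevF4.rank) (2 : ZMod 5) - U.map cf) *ᵥ (w ∘ Sum.inl) = 0 := by
      have h3 : U.map cf *ᵥ (w ∘ Sum.inl) = (2 : ZMod 5) • (w ∘ Sum.inl) := by
        conv_lhs => rw [← h1]
        rw [mulVec_smul, mulVec_mulVec, hUA, one_mulVec]
      rw [sub_mulVec, h3, Matrix.scalar_apply, ← Matrix.smul_one_eq_diagonal, smul_mulVec,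
        one_mulVec, sub_self]
    refine eq_zero_of_mulVec_eq_zero ?_ h2
    rw [← Matrix.eval_charpoly, Matrix.charpoly_map, hL4, eval_map,
      show (2 : ZMod 5) = cf 2 by simp [cf], eval₂_at_apply, E6Fold.cyclotomic_twelve]
    simp only [eval_add, eval_sub, eval_pow, eval_X, eval_one, cf]
    decide
  have hy : w ∘ Sum.inr = 0 := by
    have hπ : piOf L4 = ![1, 2, 0] ∨ piOf L4 = ![2, 0, 1] := by
      rcases piOf_cycle hL4 h12 with ⟨-, h⟩ | ⟨-, h⟩
      · exact Or.inr h
      · exact Or.inl h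
    refine cycle_no_four _ hπ e _ fun i => ?_
    have h1 := congrFun hwx (Sum.inr i)
    simp only [Pi.smul_apply, Sum.elim_inr, Matrix.zero_mulVec,
      zero_add, smul_eq_mul] at h1
    show _ = w (Sum.inr i)
    rw [← h1]
    simp [mulVec, dotProduct, hB, permM, Matrix.diagonal_mul, Finset.mul_sum, cf,
      apply_ite]
  have hw0 : w = 0 := funext fun z => by
    rcases z with z | z
    exacts [congrFun hx z, congrFun hy z]
  intro k
  have e1 : cf (((P * Q) *ᵥ b) k) = 0 := by
    rw [← mulVec_mulVec, RingHom.map_mulVec, show cf ∘ (Q *ᵥ b) = 0 from hw0, mulVec_zero,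
      Pi.zero_apply]
  rw [fromCols_basisInv7, smul_mulVec, one_mulVec, Pi.smul_apply, smul_eq_mul, map_mul,
    mul_eq_zero] at e1
  exact e1.resolve_left four_ne_zero_five

end CfsgLib.E7SixtyFive
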